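/-
Regular immersions into locally noetherian schemes, read on local rings.
-/
import Groth.Agent.Lib.RegKR4.Basic
import Groth.Agent.Lib.PerfLCI4.Kind
import Groth.Agent.Lib.PerfLCI4.Spread
import Groth.Agent.Lib.CI2.RImmBC
import Groth.Agent.Lib.CenterCoh13.Basic
import Groth.Prelude.Def_Mor2

universe u

open CategoryTheory CategoryTheory.Limits AlgebraicGeometry RingTheory.Sequence

set_option backward.isDefEq.respectTransparency.types false

namespace Groth.Agent.RegImm26

variable {Z X : Scheme.{u}} (i : Z ⟶ X)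

theorem regular_of_koszul [IsLocallyNoetherian X] (h : RegImm.IsRegularImmersion .koszul i) :
    RegImm.IsRegularImmersion .regular i := by
  haveI := h.1
  refine ⟨inferInstance, fun z => ?_⟩
  obtain ⟨U, hU, hz, -, hcl⟩ := CI2.exists_affine_closed i z (V := ⊤) trivial
  haveI := hcl
  obtain ⟨l, hl, hspan⟩ := PerfLCI4.exists_ex_atPrime (CI2.isKR_of_isRegularImmersion i h hU)
    (hU.primeIdealOf ⟨i z, hz⟩).asIdeal (CI2.ker_le_primeIdealOf i hU hz)
  exact PerfLCI4.isRegularImmersionAt_of_ex i .regular hU hz _ rfl hl hspan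

theorem regular_of_regular_schemes [IsImmersion i] [IsLocallyNoetherian X] [IsLocallyNoetherian Z]
    (hX : ∀ x : X, IsRegularLocalRing (X.presheaf.stalk x)) (hZ : ∀ z : Z, IsRegularLocalRing (Z.presheaf.stalk z)) :
    RegImm.IsRegularImmersion .regular i := by
  refine regular_of_koszul i (CI2.isRegularImmersion_of_forall_isKR i fun z => ?_)
  obtain ⟨U, hU, hz, -, hcl⟩ := CI2.exists_affine_closed i z (V := ⊤) trivial
  haveI := hcl
  haveI : IsNoetherianRing Γ(X, U) := IsLocallyNoetherian.component_noetherian ⟨U, hU⟩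
  haveI := RegKR4.isRegularRing_sections hX hU
  obtain ⟨hW, hs⟩ := CI2.surjective_app_of_closed i hU
  haveI := RegKR4.isRegularRing_sections hZ hW
  refine ⟨U, hU, hz, hcl, RegKR4.isKR_of_regular _ (fun p _ => inferInstance) fun p hp => ?_⟩
  let φ := (i.app U).hom
  haveI : (p.asIdeal.map φ).IsPrime := Ideal.map_isPrime_of_surjective hs hp
  let q := p.asIdeal.map φ
  have hcomap : q.comap φ = p.asIdeal := by
    rw [Ideal.comap_map_of_surjective φ hs, ← RingHom.ker_eq_comap_bot, sup_eq_left.mpr hp]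
  have hmap : p.asIdeal.primeCompl.map φ = q.primeCompl := by
    ext y
    refine ⟨fun ⟨x, hx, e⟩ hy => hx ?_, fun hy => ?_⟩
    · rw [← hcomap]; exact (show φ x ∈ q from e ▸ hy)
    · obtain ⟨x, rfl⟩ := hs y
      exact ⟨x, fun hx => hy (Ideal.mem_map_of_mem _ hx), rfl⟩
  haveI : IsLocalization (p.asIdeal.primeCompl.map φ) (Localization.AtPrime q) := by
    rw [hmap]; infer_instance
  let σ : Localization.AtPrime p.asIdeal →+* Localization.AtPrime q :=
    IsLocalization.map _ φ (Submonoid.le_comap_map p.asIdeal.primeCompl)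
  have hσ : Function.Surjective σ := IsLocalization.map_surjective_of_surjective (M := p.asIdeal.primeCompl)
    (g := φ) (S := Localization.AtPrime p.asIdeal) (Q := Localization.AtPrime q) hs
  have hk : RingHom.ker σ = (RingHom.ker φ).map (algebraMap _ (Localization.AtPrime p.asIdeal)) :=
    IsLocalization.ker_map (S := Localization.AtPrime p.asIdeal) (Localization.AtPrime q) φ rfl
  haveI : IsRegularLocalRing (Localization.AtPrime q) := inferInstance
  exact IsRegularLocalRing.of_ringEquiv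
    ((RingHom.quotientKerEquivOfSurjective hσ).symm.trans (Ideal.quotEquivOfEq hk))

/-- The ideal of a closed immersion in a local ring. -/
theorem ker_stalkMap_eq [IsClosedImmersion i] (z : Z) {U : X.Opens} (hU : IsAffineOpen U) (hz : i z ∈ U) :
    RingHom.ker (i.stalkMap z).hom = (RingHom.ker (i.app U).hom).map (X.presheaf.germ U (i z) hz).hom := by
  haveI : IsClosedImmersion (i ∣_ U) := IsZariskiLocalAtTarget.restrict (P := @IsClosedImmersion) ‹_› U
  refine le_antisymm (fun r hr => CenterCoh13.ker_stalkMap_le i z _ (fun V hV a ha => ?_) r hr) ?_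
  · obtain ⟨f, g, hfg, hxf⟩ := exists_basicOpen_le_affine_inter hU V.2 (i z) ⟨hz, hV⟩
    have hle : X.basicOpen f ≤ V.1 := hfg ▸ X.basicOpen_le g
    haveI : IsClosedImmersion (i ∣_ V.1) := IsZariskiLocalAtTarget.restrict (P := @IsClosedImmersion) ‹_› V.1
    rw [Scheme.Hom.ker_apply] at ha
    have h1 := Ideal.mem_map_of_mem (X.presheaf.map (homOfLE hle).op).hom ha
    rw [← CI2.ker_app_basicOpen i V.2 g hfg hle, CI2.ker_app_basicOpen i hU f rfl (X.basicOpen_le f)] at h1
    have h2 := Ideal.mem_map_of_mem (X.presheaf.germ (X.basicOpen f) (i z) hxf).hom h1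
    rw [Ideal.map_map] at h2
    have e : (X.presheaf.germ (X.basicOpen f) (i z) hxf).hom.comp (X.presheaf.map (homOfLE (X.basicOpen_le f)).op).hom =
        (X.presheaf.germ U (i z) hz).hom := RingHom.ext fun c => X.presheaf.germ_res_apply _ _ hxf c
    rw [e] at h2
    rwa [show (X.presheaf.germ (X.basicOpen f) (i z) hxf).hom ((X.presheaf.map (homOfLE hle).op).hom a) =
      X.presheaf.germ V.1 (i z) hV a from X.presheaf.germ_res_apply _ _ hxf a] at h2
  · rw [Ideal.map_le_iff_le_comap]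
    intro a ha
    rw [RingHom.mem_ker] at ha
    rw [Ideal.mem_comap, RingHom.mem_ker]
    show i.stalkMap z (X.presheaf.germ U (i z) hz a) = 0
    rw [Scheme.Hom.germ_stalkMap_apply]
    exact (congrArg (Z.presheaf.germ (i ⁻¹ᵁ U) z hz) ha).trans (map_zero _)

theorem ker_restrict_app [IsClosedImmersion i] (V : X.Opens) (W : (V : Scheme.{u}).Opens) :
    RingHom.ker ((i ∣_ V).app W).hom = RingHom.ker (i.app (V.ι ''ᵁ W)).hom := by
  rw [morphismRestrict_app]
  exact RingHom.ker_comp_of_injective _ (ConcreteCategory.bijective_of_isIso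
    (Z.presheaf.map (eqToHom (image_morphismRestrict_preimage i V W)).op)).injective

/-- Regular near a point iff the kernel in the local ring is generated by a regular sequence. -/
theorem regular_near_iff [IsLocallyNoetherian X] [IsClosedImmersion i] (z : Z) :
    (∃ V : X.Opens, i z ∈ V ∧ Mor2.IsRegularClosedImmersion (i ∣_ V)) ↔
      ∃ rs : List (X.presheaf.stalk (i z)), IsRegular (X.presheaf.stalk (i z)) rs ∧
        RingHom.ker (i.stalkMap z).hom = Ideal.ofList rs := by
  constructor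
  · rintro ⟨V, hzV, -, h⟩
    obtain ⟨W, hW, hzW, rs, hrs, hker⟩ := h ⟨z, hzV⟩
    have hU : IsAffineOpen (V.ι ''ᵁ W) := hW.image_of_isOpenImmersion V.ι
    have hzU : i z ∈ V.ι ''ᵁ W := ⟨_, hzW, morphismRestrict_base_coe i V ⟨z, hzV⟩⟩
    rw [Scheme.Hom.ker_apply, ker_restrict_app] at hker
    let A := Γ(X, V.ι ''ᵁ W)
    let rs' : List A := rs
    have hrs' : IsRegular A rs' := hrs
    letI := X.presheaf.algebra_section_stalk (U := V.ι ''ᵁ W) ⟨i z, hzU⟩
    haveI := hU.isLocalization_stalk ⟨i z, hzU⟩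
    haveI : Module.Flat A (X.presheaf.stalk (i z)) :=
      IsLocalization.flat _ (hU.primeIdealOf ⟨i z, hzU⟩).asIdeal.primeCompl
    have hk := ker_stalkMap_eq i z hU hzU
    rw [show RingHom.ker (i.app (V.ι ''ᵁ W)).hom = Ideal.ofList rs' from hker, Ideal.map_ofList] at hk
    refine ⟨_, ⟨(hrs'.toIsWeaklyRegular.of_flat (S := X.presheaf.stalk (i z))), ?_⟩, hk⟩
    intro htop
    rw [smul_eq_mul, Ideal.mul_top] at htop
    exact RingHom.ker_ne_top (i.stalkMap z).hom (hk.trans htop.symm)
  · rintro ⟨rs, hrs, hker⟩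
    obtain ⟨U, hU, hz, -⟩ := exists_isAffineOpen_mem_and_subset (X := X) (x := i z) (U := ⊤) trivial
    haveI : IsClosedImmersion (i ∣_ U) := IsZariskiLocalAtTarget.restrict (P := @IsClosedImmersion) ‹_› U
    letI := X.presheaf.algebra_section_stalk (U := U) ⟨i z, hz⟩
    haveI := hU.isLocalization_stalk ⟨i z, hz⟩
    let q := (hU.primeIdealOf ⟨i z, hz⟩).asIdeal
    let e : X.presheaf.stalk (i z) ≃ₐ[Γ(X, U)] Localization.AtPrime q := IsLocalization.algEquiv q.primeCompl _ _
    have hl : IsWeaklyRegular (Localization.AtPrime q) (rs.map e.toRingEquiv) :=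
      (AddEquiv.isWeaklyRegular_congr (e := e.toRingEquiv.toAddEquiv)
        (List.forall₂_map_right_iff.2 (List.forall₂_same.2 fun r _ x => map_mul e r x))).1 hrs.toIsWeaklyRegular
    have hspan : (RingHom.ker (i.app U).hom).map (algebraMap Γ(X, U) (Localization.AtPrime q)) =
        Ideal.ofList (rs.map e.toRingEquiv) := by
      rw [show rs.map e.toRingEquiv = rs.map e.toRingEquiv.toRingHom from rfl, ← Ideal.map_ofList, ← hker,
        ker_stalkMap_eq i z hU hz, Ideal.map_map]
      exact congrArg (fun ψ => Ideal.map ψ _) (RingHom.ext fun a => (e.commutes a).symm)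
    obtain ⟨⟨V, hV⟩, hzV, hcl, l, hlr, hlker⟩ := PerfLCI4.isRegularImmersionAt_of_ex i .regular hU hz q rfl
      (CI2.ex_of_isWeaklyRegular _ _ hl) hspan
    haveI := hcl
    refine ⟨V, hzV, hcl, fun z' => ?_⟩
    haveI : IsAffine (V : Scheme.{u}) := hV
    have key : ∀ V' : X.Opens, V' = V → ∃ l' : List Γ(X, V'), IsRegular Γ(X, V') l' ∧
        RingHom.ker (i.app V').hom = Ideal.ofList l' := fun V' e => by
      subst e; exact ⟨l, hlr, hlker⟩
    obtain ⟨l', hlr', hlker'⟩ := key _ V.ι_image_top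
    refine ⟨⊤, isAffineOpen_top _, trivial, l', hlr', ?_⟩
    rw [Scheme.Hom.ker_apply, ker_restrict_app]
    exact hlker'

/-- Concatenation of a regular sequence with lifts of a regular sequence of the quotient. -/
theorem isWeaklyRegular_append_lift {A B : Type u} [CommRing A] [CommRing B] (φ : A →+* B) (hφ : Function.Surjective φ)
    {rs : List A} (hrs : IsWeaklyRegular A rs) (hker : RingHom.ker φ = Ideal.ofList rs) {ts : List A}
    (hts : IsWeaklyRegular B (ts.map φ)) : IsWeaklyRegular A (rs ++ ts) := by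
  have hcomap : ∀ ls : List A, Ideal.ofList (rs ++ ls) = (Ideal.ofList (ls.map φ)).comap φ := fun ls => by
    rw [← Ideal.map_ofList, Ideal.comap_map_of_surjective φ hφ, ← RingHom.ker_eq_comap_bot, hker,
      Ideal.ofList_append, sup_comm]
  rw [EmbDef.isWeaklyRegular_self_iff] at hrs hts ⊢
  intro k hk a ha
  by_cases hkr : k < rs.length
  · rw [List.take_append_of_le_length hkr.le] at ha ⊢
    rw [List.getElem_append_left hkr] at ha
    exact hrs k hkr a ha
  · have hkr := not_lt.1 hkr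
    rw [List.take_append, List.take_of_length_le hkr, hcomap, Ideal.mem_comap] at ha ⊢
    rw [List.getElem_append_right hkr, map_mul] at ha
    rw [List.map_take] at ha ⊢
    refine hts (k - rs.length) (by rw [List.length_append] at hk; rw [List.length_map]; omega) (φ a) ?_
    rw [List.getElem_map]
    exact ha

/-- Composites of regular closed immersions. -/
theorem regularClosedImmersion_comp {Y : Scheme.{u}} (i : Z ⟶ Y) (j : Y ⟶ X)
    (hi : Mor2.IsRegularClosedImmersion i) (hj : Mor2.IsRegularClosedImmersion j) :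
    Mor2.IsRegularClosedImmersion (i ≫ j) := by
  haveI := hi.1
  haveI := hj.1
  refine ⟨inferInstance, fun z => ?_⟩
  obtain ⟨U, hU, hzU, rs, hrs, hkrs⟩ := hj.2 (i z)
  obtain ⟨V, hV, hzV, ts, hts, hkts⟩ := hi.2 z
  rw [Scheme.Hom.ker_apply] at hkrs hkts
  haveI : IsClosedImmersion (j ∣_ U) := IsZariskiLocalAtTarget.restrict (P := @IsClosedImmersion) ‹_› U
  haveI : IsClosedImmersion (i ∣_ V) := IsZariskiLocalAtTarget.restrict (P := @IsClosedImmersion) ‹_› V
  obtain ⟨hW, hs⟩ := CI2.surjective_app_of_closed j hU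
  obtain ⟨f, h, hfh, hxf⟩ := exists_basicOpen_le_affine_inter hW hV (i z) ⟨hzU, hzV⟩
  obtain ⟨g, rfl⟩ := hs f
  rw [show Y.basicOpen ((j.app U).hom g) = j ⁻¹ᵁ X.basicOpen g from (Scheme.preimage_basicOpen j g).symm] at hfh hxf
  have hD : IsAffineOpen (X.basicOpen g) := hU.basicOpen g
  have hleV : j ⁻¹ᵁ X.basicOpen g ≤ V := hfh ▸ Y.basicOpen_le h
  haveI : IsClosedImmersion (j ∣_ X.basicOpen g) := IsZariskiLocalAtTarget.restrict (P := @IsClosedImmersion) ‹_› _
  obtain ⟨hWD, hsD⟩ := CI2.surjective_app_of_closed j hD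
  letI : Algebra Γ(X, U) Γ(X, X.basicOpen g) := (X.presheaf.map (homOfLE (X.basicOpen_le g)).op).hom.toAlgebra
  haveI : IsLocalization.Away g Γ(X, X.basicOpen g) := hU.isLocalization_basicOpen g
  letI : Algebra Γ(Y, V) Γ(Y, j ⁻¹ᵁ X.basicOpen g) := (Y.presheaf.map (homOfLE hleV).op).hom.toAlgebra
  haveI : IsLocalization.Away h Γ(Y, j ⁻¹ᵁ X.basicOpen g) := hV.isLocalization_of_eq_basicOpen h (homOfLE hleV) hfh
  haveI : Module.Flat Γ(X, U) Γ(X, X.basicOpen g) := IsLocalization.flat _ (Submonoid.powers g)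
  haveI : Module.Flat Γ(Y, V) Γ(Y, j ⁻¹ᵁ X.basicOpen g) := IsLocalization.flat _ (Submonoid.powers h)
  let φ := (j.app (X.basicOpen g)).hom
  let rs' := rs.map (algebraMap Γ(X, U) Γ(X, X.basicOpen g))
  let ts₀ := ts.map (algebraMap Γ(Y, V) Γ(Y, j ⁻¹ᵁ X.basicOpen g))
  choose lift hlift using hsD
  let ts' := ts₀.map lift
  have hmap : ts'.map φ = ts₀ := by
    rw [List.map_map]
    conv_rhs => rw [← List.map_id ts₀]
    exact List.map_congr_left fun x _ => hlift x
  have hkr : RingHom.ker φ = Ideal.ofList rs' := by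
    rw [CI2.ker_app_basicOpen j hU g rfl (X.basicOpen_le g), hkrs, Ideal.map_ofList]
    rfl
  have hkt : RingHom.ker (i.app (j ⁻¹ᵁ X.basicOpen g)).hom = Ideal.ofList ts₀ := by
    rw [CI2.ker_app_basicOpen i hV h hfh hleV, hkts, Ideal.map_ofList]
    rfl
  have hk : RingHom.ker ((i ≫ j).app (X.basicOpen g)).hom = Ideal.ofList (rs' ++ ts') := by
    rw [Scheme.Hom.comp_app]
    show RingHom.ker ((i.app _).hom.comp φ) = _
    rw [← RingHom.comap_ker, hkt, ← hmap, ← Ideal.map_ofList, Ideal.comap_map_of_surjective φ (fun y => ⟨_, hlift y⟩),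
      ← RingHom.ker_eq_comap_bot, hkr, Ideal.ofList_append, sup_comm]
  refine ⟨X.basicOpen g, hD, hxf, rs' ++ ts', ⟨isWeaklyRegular_append_lift φ (fun y => ⟨_, hlift y⟩)
    hrs.toIsWeaklyRegular.of_flat hkr (hmap.symm ▸ hts.toIsWeaklyRegular.of_flat), ?_⟩, ?_⟩
  · rw [smul_eq_mul, Ideal.mul_top, ← hk]
    intro htop
    have h1 : ((i ≫ j).app (X.basicOpen g)).hom 1 = 0 := RingHom.mem_ker.1 (htop.symm ▸ Submodule.mem_top)
    rw [map_one] at h1
    have h2 := congrArg (Z.presheaf.germ ((i ≫ j) ⁻¹ᵁ X.basicOpen g) z hxf).hom h1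
    rw [map_one, map_zero] at h2
    exact one_ne_zero h2
  · rw [Scheme.Hom.ker_apply]; exact hk

end Groth.Agent.RegImm26

namespace Groth.Agent.RegImm26

/-- For closed immersions the two notions of regularity agree. -/
theorem regularClosedImmersion_iff {Z X : Scheme.{u}} (i : Z ⟶ X) :
    Mor2.IsRegularClosedImmersion i ↔ IsClosedImmersion i ∧ RegImm.IsRegularImmersion .regular i := by
  constructor
  · rintro ⟨h, h'⟩
    refine ⟨h, inferInstance, fun z => ?_⟩
    obtain ⟨U, hU, hz, rs, hrs, hker⟩ := h' z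
    rw [Scheme.Hom.ker_apply] at hker
    exact ⟨⟨U, hU⟩, hz, IsZariskiLocalAtTarget.restrict (P := @IsClosedImmersion) h U, rs, hrs, hker⟩
  · rintro ⟨h, h'⟩
    refine ⟨h, fun z => ?_⟩
    obtain ⟨⟨U, hU⟩, hz, -, rs, hrs, hker⟩ := h'.2 z
    exact ⟨U, hU, hz, rs, hrs, by rw [Scheme.Hom.ker_apply]; exact hker⟩

theorem regular_iff_quasi {Z X : Scheme.{u}} [IsLocallyNoetherian X] (i : Z ⟶ X) :
    RegImm.IsRegularImmersion .regular i ↔ RegImm.IsRegularImmersion .quasi i := by
  refine ⟨fun h => ⟨h.1, fun z => ?_⟩, fun h => regular_of_koszul i (PerfLCI4.koszul_of_kind i h)⟩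
  obtain ⟨U, hz, hcl, rs, hrs, hker⟩ := h.2 z
  exact ⟨U, hz, hcl, rs, PerfLCI4.seq_of_isRegular .quasi hrs, hker⟩

end Groth.Agent.RegImm26
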