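/-
A flat closed subscheme cut out fibrewise by regular sequences is cut out by regular sequences.
-/
import Groth.Agent.Lib.RegImm26.Noeth
import Groth.Agent.Lib.RelEff26.Fibre
import Groth.Agent.Lib.FlatH4.FlatLocusScheme

universe u

open CategoryTheory CategoryTheory.Limits AlgebraicGeometry TopologicalSpace RingTheory.Sequence

set_option backward.isDefEq.respectTransparency.types false

namespace Groth.Agent.RegImm26

open Groth.Agent.EffCartier

/-- Multiplying the members of a regular sequence by units keeps it regular. -/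
theorem isWeaklyRegular_unit_mul {A : Type u} [CommRing A] {rs fs : List A} (hlen : fs.length = rs.length)
    (h : ∀ (k : ℕ) (hk : k < fs.length), ∃ w : Aˣ, fs[k] = w * rs[k]'(hlen ▸ hk)) (hrs : IsWeaklyRegular A rs) :
    IsWeaklyRegular A fs ∧ Ideal.ofList fs = Ideal.ofList rs := by
  have htake : ∀ j, Ideal.ofList (fs.take j) = Ideal.ofList (rs.take j) := by
    intro j
    refine le_antisymm (Ideal.span_le.2 fun y hy => ?_) (Ideal.span_le.2 fun y hy => ?_)
    · obtain ⟨k, hk, rfl⟩ := List.mem_take_iff_getElem.1 hy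
      obtain ⟨hk1, hk2⟩ := lt_min_iff.1 hk
      obtain ⟨w, hw⟩ := h k hk2
      rw [hw]
      exact Ideal.mul_mem_left _ _ (Ideal.subset_span (List.mem_take_iff_getElem.2
        ⟨k, lt_min hk1 (hlen ▸ hk2), rfl⟩))
    · obtain ⟨k, hk, rfl⟩ := List.mem_take_iff_getElem.1 hy
      obtain ⟨hk1, hk2⟩ := lt_min_iff.1 hk
      obtain ⟨w, hw⟩ := h k (hlen.symm ▸ hk2)
      have h1 : fs[k]'(hlen.symm ▸ hk2) ∈ Ideal.ofList (fs.take j) :=
        Ideal.subset_span (List.mem_take_iff_getElem.2 ⟨k, lt_min hk1 (hlen.symm ▸ hk2), rfl⟩)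
      have h2 := Ideal.mul_mem_left _ (w⁻¹ : Aˣ).1 h1
      rwa [hw, Units.inv_mul_cancel_left] at h2
  refine ⟨(EmbDef.isWeaklyRegular_self_iff _).2 fun k hk a ha => ?_, ?_⟩
  · rw [htake] at ha ⊢
    obtain ⟨w, hw⟩ := h k hk
    refine (EmbDef.isWeaklyRegular_self_iff _).1 hrs k (hlen ▸ hk) a ?_
    rw [hw, mul_left_comm] at ha
    exact (Ideal.unit_mul_mem_iff_mem _ w.isUnit).1 ha
  · have := htake fs.length
    rwa [List.take_length, hlen, List.take_length] at this

variable {X S : Scheme.{u}} (φ : X ⟶ S) (I : X.IdealSheafData)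

/-- The map from sections to the local ring of the fibre. -/
noncomputable abbrev toFib {s : S} (z : φ.fiber s) {U : X.Opens} (hz : φ.fiberι s z ∈ U) :
    Γ(X, U) →+* (φ.fiber s).presheaf.stalk z :=
  ((φ.fiberι s).stalkMap z).hom.comp (X.presheaf.germ U _ hz).hom

/-- The fibrewise ideal in terms of a regular sequence on an affine open of the fibre. -/
theorem exists_fib_seq {s : S} (z : φ.fiber s) {V : (φ.fiber s).affineOpens} (hzV : z ∈ V.1)
    {rs : List Γ(φ.fiber s, V.1)} (hrs : IsWeaklyRegular Γ(φ.fiber s, V.1) rs)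
    (hI : (I.comap (φ.fiberι s)).ideal V = Ideal.ofList rs) {U : X.affineOpens} (hzU : φ.fiberι s z ∈ U.1) :
    ∃ ls : List ((φ.fiber s).presheaf.stalk z), IsWeaklyRegular ((φ.fiber s).presheaf.stalk z) ls ∧
      (I.ideal U).map (toFib φ z hzU) = Ideal.ofList ls := by
  let K := I.comap (φ.fiberι s)
  letI := (φ.fiber s).presheaf.algebra_section_stalk (U := V.1) ⟨z, hzV⟩
  haveI := V.2.isLocalization_stalk ⟨z, hzV⟩
  haveI : Module.Flat Γ(φ.fiber s, V.1) ((φ.fiber s).presheaf.stalk z) :=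
    IsLocalization.flat _ (V.2.primeIdealOf ⟨z, hzV⟩).asIdeal.primeCompl
  refine ⟨_, hrs.of_flat (S := (φ.fiber s).presheaf.stalk z), ?_⟩
  rw [← Ideal.map_ofList, ← hI]
  obtain ⟨W', hW', hzW, hW⟩ := exists_isAffineOpen_mem_and_subset (X := φ.fiber s) (x := z)
    (U := V.1 ⊓ φ.fiberι s ⁻¹ᵁ U.1) ⟨hzV, hzU⟩
  let W : (φ.fiber s).affineOpens := ⟨W', hW'⟩
  have hWV : W.1 ≤ V.1 := fun y hy => (hW hy).1
  have hWU : W.1 ≤ φ.fiberι s ⁻¹ᵁ U.1 := fun y hy => (hW hy).2
  let g := ((φ.fiber s).presheaf.germ W.1 z hzW).hom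
  have h1 : (K.ideal W).map g = (K.ideal V).map (algebraMap Γ(φ.fiber s, V.1) ((φ.fiber s).presheaf.stalk z)) := by
    rw [← K.map_ideal (show W ≤ V from hWV), Ideal.map_map]
    exact congrArg (fun ψ => Ideal.map ψ _) (RingHom.ext fun c =>
      (φ.fiber s).presheaf.germ_res_apply (homOfLE hWV) z hzW c)
  rw [← h1, comap_ideal I (φ.fiberι s) U W hWU, Ideal.map_map]
  refine congrArg (fun ψ => Ideal.map ψ _) (RingHom.ext fun c => ?_)
  show (φ.fiberι s).stalkMap z (X.presheaf.germ U.1 _ hzU c) = _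
  rw [Scheme.Hom.germ_stalkMap_apply]
  exact ((φ.fiber s).presheaf.germ_res_apply (homOfLE hWU) z hzW _).symm

/-- Spreading out a fibrewise regular sequence generating a flat closed subscheme. -/
theorem exists_regular_of_fibre [LocallyOfFinitePresentation φ]
    [Flat (I.subschemeι ≫ φ)] [LocallyOfFinitePresentation (I.subschemeι ≫ φ)]
    {s : S} (z : φ.fiber s) (hflat : (φ.stalkMap (φ.fiberι s z)).hom.Flat)
    (hx : φ.fiberι s z ∈ I.support)
    (hfib : ∃ V : (φ.fiber s).affineOpens, z ∈ V.1 ∧ ∃ rs : List Γ(φ.fiber s, V.1),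
      IsWeaklyRegular Γ(φ.fiber s, V.1) rs ∧ (I.comap (φ.fiberι s)).ideal V = Ideal.ofList rs) :
    ∃ (W : S.affineOpens) (V : X.affineOpens) (e : V.1 ≤ φ ⁻¹ᵁ W.1), φ.fiberι s z ∈ V.1 ∧
      ∃ rs : List Γ(X, V.1), IsRegular Γ(X, V.1) rs ∧ I.ideal V = Ideal.ofList rs ∧
        (letI := (φ.appLE W.1 V.1 e).hom.toAlgebra
         RegImm.IsTransRegularSeq Γ(S, W.1) Γ(X, V.1) rs) := by
  classical
  obtain ⟨W, hxW⟩ := RelEff26.exists_charts φ (φ.fiberι s z)
  let O : X.Opens := ⟨{y | (φ.stalkMap y).hom.Flat}, FlatH4.isOpen_flatLocus φ⟩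
  obtain ⟨U', hU', hxU, hle⟩ := exists_isAffineOpen_mem_and_subset (X := X) (x := φ.fiberι s z)
    (U := φ ⁻¹ᵁ W.1 ⊓ O) ⟨hxW, hflat⟩
  let U : X.affineOpens := ⟨U', hU'⟩
  have hxU : φ.fiberι s z ∈ U.1 := hxU
  have hr : U.1 ≤ φ ⁻¹ᵁ W.1 := fun y hy => (hle hy).1
  let A := Γ(S, W.1)
  let C := Γ(X, U.1)
  algebraize [(φ.appLE W.1 U.1 hr).hom]
  haveI : Algebra.FinitePresentation A C := φ.finitePresentation_appLE W.2 U.2 hr
  haveI : Module.Flat A C := by
    have hprime : ∀ P : PrimeSpectrum C, ∀ hy : U.2.fromSpec P ∈ U.1, U.2.primeIdealOf ⟨U.2.fromSpec P, hy⟩ = P :=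
      fun P hy => U.2.fromSpec.isOpenEmbedding.injective (U.2.fromSpec_primeIdealOf ⟨_, hy⟩)
    have hmemU : ∀ P : PrimeSpectrum C, U.2.fromSpec P ∈ U.1 := fun P => U.2.range_fromSpec.le ⟨P, rfl⟩
    refine FlatH4.flat_of_localized_maximal_algebra (S := C) fun P _ => ?_
    have h := (FlatH4.flat_stalkMap_iff φ W.1 W.2 U.1 U.2 hr (hmemU ⟨P, inferInstance⟩)).1 (hle (hmemU _)).2
    rwa [hprime] at h
  let J : Ideal C := I.ideal U
  have halg : algebraMap A (C ⧸ J) = (Ideal.Quotient.mk J).comp (φ.appLE W.1 U.1 hr).hom := rfl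
  haveI : Module.Flat A (C ⧸ J) := by
    rw [← RingHom.flat_algebraMap_iff, halg]
    exact CurveCartier25.prop_quotient (P := @Flat) φ I inferInstance W U hr
  haveI : Algebra.FinitePresentation A (C ⧸ J) := by
    rw [← RingHom.finitePresentation_algebraMap, halg]
    exact CurveCartier25.prop_quotient (P := @LocallyOfFinitePresentation) φ I inferInstance W U hr
  have hJ : J.FG := by
    have := Algebra.FinitePresentation.ker_fG_of_surjective (Ideal.Quotient.mkₐ A J) Ideal.Quotient.mk_surjective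
    rwa [show RingHom.ker (Ideal.Quotient.mkₐ A J).toRingHom = J from Ideal.mk_ker] at this
  let q := (U.2.primeIdealOf ⟨φ.fiberι s z, hxU⟩).asIdeal
  letI := X.presheaf.algebra_section_stalk (U := U.1) ⟨φ.fiberι s z, hxU⟩
  haveI : IsLocalization.AtPrime (X.presheaf.stalk (φ.fiberι s z)) q := U.2.isLocalization_stalk ⟨φ.fiberι s z, hxU⟩
  let St := X.presheaf.stalk (φ.fiberι s z)
  let pC : Ideal C := (q.comap (algebraMap A C)).map (algebraMap A C)
  obtain ⟨e, he⟩ := EGA43Top.exists_ringEquiv_fiber_stalk φ s z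
  have hN : (IsLocalRing.maximalIdeal (S.presheaf.stalk (φ (φ.fiberι s z)))).map (φ.stalkMap (φ.fiberι s z)).hom =
      pC.map (algebraMap C St) := CMSlice4.map_maximalIdeal_stalkMap φ W.2 U.2 hr hxU
  obtain ⟨V₀, hzV₀, rs₀, hrs₀, hrs₀I⟩ := hfib
  obtain ⟨ls, hls, hlsI⟩ := exists_fib_seq φ I z hzV₀ hrs₀ hrs₀I hxU
  let θ : C →+* (φ.fiber s).presheaf.stalk z := toFib φ z hxU
  have hθ : ∀ c, θ c = (φ.fiberι s).stalkMap z (algebraMap C St c) := fun c => rfl
  -- unit multiples of the sequence come from the ideal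
  have hclear : ∀ k : Fin ls.length, ∃ c ∈ J, ∃ w : ((φ.fiber s).presheaf.stalk z)ˣ, θ c = w * ls.get k := by
    intro k
    have hmem : ls.get k ∈ J.map θ := hlsI.ge (Ideal.subset_span (ls.get_mem k))
    rw [show θ = ((φ.fiberι s).stalkMap z).hom.comp (algebraMap C St) from rfl, ← Ideal.map_map] at hmem
    obtain ⟨a, ha, hak⟩ := (Ideal.mem_map_iff_of_surjective _ ((φ.fiberι s).stalkMap_surjective z)).1 hmem
    obtain ⟨⟨c, t⟩, hct⟩ := (IsLocalization.mem_map_algebraMap_iff q.primeCompl St).1 ha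
    refine ⟨c, c.2, ((IsLocalization.map_units St t).map ((φ.fiberι s).stalkMap z).hom).unit, ?_⟩
    rw [IsUnit.unit_spec, hθ, ← hct, map_mul, ← hak, mul_comm]
  choose c hcJ w hw using hclear
  let hs := List.ofFn c
  obtain ⟨hfs, hfsI⟩ := isWeaklyRegular_unit_mul (rs := ls) (fs := hs.map θ) (by simp [hs]) (fun k hk => by
    have hk' : k < ls.length := by simpa [hs] using hk
    exact ⟨w ⟨k, hk'⟩, by simp only [hs, List.getElem_map, List.getElem_ofFn]; exact hw ⟨k, hk'⟩⟩) hls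
  rw [← hlsI] at hfsI
  have hhsJ : Ideal.ofList hs ≤ J := Ideal.span_le.2 fun a ha => by
    obtain ⟨k, rfl⟩ := List.mem_ofFn.1 ha
    exact hcJ k
  have hJq : J ≤ q := by
    intro a ha
    by_contra hna
    rw [Scheme.IdealSheafData.mem_support_iff_of_mem hxU, Scheme.mem_zeroLocus_iff] at hx
    exact hx a ha ((X.mem_basicOpen a _ hxU).mpr (IsLocalization.map_units St (⟨a, hna⟩ : q.primeCompl)))
  have hsq : Ideal.ofList hs ≤ q := hhsJ.trans hJq
  -- Nakayama
  have hNak : J.map (algebraMap C St) ≤ (Ideal.ofList hs).map (algebraMap C St) := by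
    refine Submodule.le_of_le_smul_of_le_jacobson_bot (hJ.map _)
      (le_of_eq (IsLocalRing.jacobson_eq_maximalIdeal ⊥ bot_ne_top).symm) ?_
    rw [Ideal.map_le_iff_le_comap]
    intro a ha
    rw [← Ideal.map_ofList] at hfsI
    have h1 : θ a ∈ (Ideal.ofList hs).map θ := hfsI.symm ▸ Ideal.mem_map_of_mem θ ha
    rw [show θ = ((φ.fiberι s).stalkMap z).hom.comp (algebraMap C St) from rfl, ← Ideal.map_map] at h1
    obtain ⟨b, hb, hba⟩ := (Ideal.mem_map_iff_of_surjective _ ((φ.fiberι s).stalkMap_surjective z)).1 h1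
    have hmem : algebraMap C St a - b ∈ pC.map (algebraMap C St) := by
      rw [← hN, ← Ideal.Quotient.eq]
      refine e.injective ?_
      rw [he, he]
      exact hba.symm
    obtain ⟨⟨d, t⟩, hdt⟩ := (IsLocalization.mem_map_algebraMap_iff q.primeCompl St).1 hb
    have hdt : b * algebraMap C St t = algebraMap C St d := hdt
    have hmem' : algebraMap C St (a * t - d) ∈ pC.map (algebraMap C St) := by
      rw [map_sub, map_mul, ← hdt, ← sub_mul]
      exact Ideal.mul_mem_right _ _ hmem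
    obtain ⟨t', ht', hmem''⟩ : ∃ t' ∈ q.primeCompl, t' * (a * t - d) ∈ pC :=
      (IsLocalization.algebraMap_mem_map_algebraMap_iff q.primeCompl St pC _).1 hmem'
    have h3 := Ideal.mem_map_of_mem (algebraMap C St) (CurveCartier25.mem_map_mul_of_flat J _
      (Ideal.mul_mem_left _ t' (sub_mem (Ideal.mul_mem_right _ _ ha) (hhsJ d.2))) hmem'')
    rw [Ideal.map_mul] at h3
    have hpm : pC.map (algebraMap C St) ≤ IsLocalRing.maximalIdeal St := by
      rw [← IsLocalization.AtPrime.map_eq_maximalIdeal q St]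
      exact Ideal.map_mono Ideal.map_comap_le
    have hu : IsUnit (algebraMap C St (t' * t)) :=
      IsLocalization.map_units St (⟨_, q.primeCompl.mul_mem ht' t.2⟩ : q.primeCompl)
    rw [Ideal.mem_comap]
    refine (Ideal.unit_mul_mem_iff_mem _ hu).1 ?_
    have e' : algebraMap C St (t' * t) * algebraMap C St a =
        algebraMap C St t' * algebraMap C St d + algebraMap C St (t' * (a * t - d)) := by
      simp only [map_mul, map_sub]; ring
    rw [e']
    refine add_mem (Submodule.mem_sup_left (Ideal.mul_mem_left _ _ (Ideal.mem_map_of_mem _ d.2)))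
      (Submodule.mem_sup_right ?_)
    rw [smul_eq_mul]
    exact Ideal.mul_mono_left hpm h3
  -- spreading out generation
  obtain ⟨T, hT⟩ := hJ
  have hc' : ∀ a : T, ∃ m ∉ q, m * a.1 ∈ Ideal.ofList hs := fun a => by
    have h4 := hNak (Ideal.mem_map_of_mem _ (hT ▸ Ideal.subset_span a.2 : a.1 ∈ J))
    obtain ⟨m, hm, hm'⟩ := (IsLocalization.algebraMap_mem_map_algebraMap_iff q.primeCompl St _ _).1 h4
    exact ⟨m, hm, hm'⟩
  choose m hm hm' using hc'
  -- regularity in the fibre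
  have hfr : KoszulFibre4.FibReg q A hs := by
    refine Slice4.fibReg_of_isWeaklyRegular (R := A) q St hs ?_
    have h1 : IsWeaklyRegular (St ⧸ (IsLocalRing.maximalIdeal (S.presheaf.stalk (φ (φ.fiberι s z)))).map
        (φ.stalkMap (φ.fiberι s z)).hom) ((hs.map (algebraMap C St)).map (Ideal.Quotient.mk ((IsLocalRing.maximalIdeal (S.presheaf.stalk (φ (φ.fiberι s z)))).map (φ.stalkMap (φ.fiberι s z)).hom))) := by
      refine (AddEquiv.isWeaklyRegular_congr (e := e.toAddEquiv) ?_).2 hfs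
      rw [List.map_map, List.forall₂_map_left_iff, List.forall₂_map_right_iff]
      exact List.forall₂_same.2 fun r _ a => (map_mul e _ a).trans (by rw [Function.comp_apply, he]; rfl)
    rw [hN, List.map_map] at h1
    exact h1
  obtain ⟨G₀, hG₀, hdata⟩ := Slice4.exists_regular_flat_away q hs hsq hfr
  let G := G₀ * ∏ a, m a
  have hG : G ∉ q := fun h => ((inferInstance : q.IsPrime).mem_or_mem h).elim hG₀ fun h => by
    obtain ⟨a, -, ha⟩ := (inferInstance : q.IsPrime).prod_mem_iff.1 h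
    exact hm a ha
  let V : X.affineOpens := X.affineBasicOpen G
  have hVU : V.1 ≤ U.1 := X.basicOpen_le G
  have hVW : V.1 ≤ φ ⁻¹ᵁ W.1 := hVU.trans hr
  letI : Algebra C Γ(X, V.1) := (X.presheaf.map (homOfLE hVU).op).hom.toAlgebra
  haveI : IsLocalization.Away G Γ(X, V.1) := U.2.isLocalization_basicOpen G
  letI : Algebra A Γ(X, V.1) := (φ.appLE W.1 V.1 hVW).hom.toAlgebra
  haveI : IsScalarTower A C Γ(X, V.1) := IsScalarTower.of_algebraMap_eq fun t =>
    congrArg (fun k => k t) (Scheme.Hom.appLE_map φ hr (homOfLE hVU).op).symm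
  obtain ⟨hwr, hfl⟩ := hdata G (dvd_mul_right _ _) Γ(X, V.1)
  have hxV : φ.fiberι s z ∈ V.1 :=
    (X.mem_basicOpen _ _ hxU).mpr (IsLocalization.map_units St (⟨G, hG⟩ : q.primeCompl))
  have hIV : I.ideal V = Ideal.ofList (hs.map (algebraMap C Γ(X, V.1))) := by
    rw [← I.map_ideal (X.affineBasicOpen_le G), ← Ideal.map_ofList]
    refine le_antisymm ?_ (Ideal.map_mono hhsJ)
    rw [show I.ideal U = Ideal.span (T : Set C) from hT.symm, Ideal.map_span, Ideal.span_le]
    rintro _ ⟨a, ha, rfl⟩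
    refine (Ideal.unit_mul_mem_iff_mem _ (IsLocalization.Away.algebraMap_isUnit G)).1 ?_
    show algebraMap C Γ(X, V.1) G * algebraMap C Γ(X, V.1) a ∈ _
    rw [← map_mul]
    exact Ideal.mem_map_of_mem _ (Ideal.mem_of_dvd _ (mul_dvd_mul_right
      ((Finset.dvd_prod_of_mem m (Finset.mem_univ (⟨a, ha⟩ : T))).trans (dvd_mul_left _ G₀)) a) (hm' ⟨a, ha⟩))
  refine ⟨W, V, hVW, hxV, hs.map (algebraMap C Γ(X, V.1)), ⟨hwr, ?_⟩, hIV, hwr, fun j hj => hfl j (by simpa using hj)⟩
  rw [smul_eq_mul, Ideal.mul_top, ← hIV]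
  intro htop
  rw [Scheme.IdealSheafData.mem_support_iff_of_mem hxV, Scheme.mem_zeroLocus_iff] at hx
  exact hx 1 (htop ▸ Submodule.mem_top) (by rw [Scheme.basicOpen_of_isUnit X isUnit_one]; exact hxV)

end Groth.Agent.RegImm26
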