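/-
Regular immersions from their fibres: applications.
-/
import Groth.Agent.Lib.RegImm26.Fibrewise
import Groth.Agent.Lib.RegSeq26.FlatBC
import Groth.Agent.Lib.WeilExt.Regular

universe u

open CategoryTheory CategoryTheory.Limits AlgebraicGeometry TopologicalSpace RingTheory.Sequence

set_option backward.isDefEq.respectTransparency.types false

namespace Groth.Agent.RegImm26

variable {X S : Scheme.{u}} (φ : X ⟶ S)

theorem isLocallyNoetherian_fiber [LocallyOfFiniteType φ] (s : S) : IsLocallyNoetherian (φ.fiber s) := by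
  haveI : LocallyOfFiniteType (φ.fiberToSpecResidueField s) :=
    MorphismProperty.pullback_snd (P := @LocallyOfFiniteType) _ _ inferInstance
  exact LocallyOfFiniteType.isLocallyNoetherian (φ.fiberToSpecResidueField s)

theorem ker_snd_eq {Y T : Scheme.{u}} (i : Y ⟶ X) [IsClosedImmersion i] (f : T ⟶ X) :
    (pullback.snd i f).ker = i.ker.comap f := by
  rw [← Scheme.IdealSheafData.ker_fst_of_isClosedImmersion i f, ← pullbackSymmetry_hom_comp_fst i f,
    Scheme.Hom.ker_comp_of_isIso]

/-- The fibrewise hypothesis from a quasi-regular immersion into the fibre. -/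
theorem fib_of_closedImmersion [LocallyOfFiniteType φ] (I : X.IdealSheafData) {s : S} {W : Scheme.{u}}
    (j : W ⟶ φ.fiber s) [IsClosedImmersion j] (hj : j.ker = I.comap (φ.fiberι s))
    (h : RegImm.IsRegularImmersion .quasi j) (w : W) :
    ∃ V : (φ.fiber s).affineOpens, j w ∈ V.1 ∧ ∃ rs : List Γ(φ.fiber s, V.1),
      IsWeaklyRegular Γ(φ.fiber s, V.1) rs ∧ (I.comap (φ.fiberι s)).ideal V = Ideal.ofList rs := by
  haveI := isLocallyNoetherian_fiber φ s
  obtain ⟨V, hwV, -, rs, hrs, hker⟩ := ((regular_iff_quasi j).2 h).2 w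
  exact ⟨V, hwV, rs, hrs.toIsWeaklyRegular, by rw [← hj, Scheme.Hom.ker_apply]; exact hker⟩

/-- A closed immersion, flat over the base, with quasi-regular fibres is regular. -/
theorem regular_of_fibres {Y : Scheme.{u}} (i : Y ⟶ X) [IsClosedImmersion i] [LocallyOfFinitePresentation φ]
    [Flat (i ≫ φ)] [LocallyOfFinitePresentation (i ≫ φ)] (hflat : ∀ y, (φ.stalkMap (i y)).hom.Flat)
    (hfib : ∀ s : S, RegImm.IsRegularImmersion .quasi (pullback.snd i (φ.fiberι s))) :
    RegImm.IsRegularImmersion .regular i := by
  refine ⟨inferInstance, fun y => ?_⟩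
  haveI : IsClosedImmersion i := inferInstance
  let I := i.ker
  have e : i.toImage ≫ I.subschemeι ≫ φ = i ≫ φ := by rw [← Category.assoc, i.toImage_imageι]
  haveI : IsIso i.toImage := inferInstance
  haveI : Flat (I.subschemeι ≫ φ) := by
    rw [← MorphismProperty.cancel_left_of_respectsIso @Flat i.toImage, e]; infer_instance
  haveI : LocallyOfFinitePresentation (I.subschemeι ≫ φ) := by
    rw [← MorphismProperty.cancel_left_of_respectsIso @LocallyOfFinitePresentation i.toImage, e]; infer_instance
  have key : ∀ (s : S) (z : φ.fiber s), φ.fiberι s z = i y → RegImm.IsRegularImmersionAt .regular i y := by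
    intro s z hz
    obtain ⟨w, hw1, hw2⟩ := Scheme.Pullback.exists_preimage_pullback (f := i) (g := φ.fiberι s) y z hz.symm
    haveI : IsClosedImmersion (pullback.snd i (φ.fiberι s)) := inferInstance
    have hf := fib_of_closedImmersion φ I (pullback.snd i (φ.fiberι s)) (ker_snd_eq i _) (hfib s) w
    rw [hw2] at hf
    have hx : φ.fiberι s z ∈ I.support := by rw [hz]; exact i.range_subset_ker_support ⟨y, rfl⟩
    obtain ⟨W, V, e, hV, rs, hrs, hI, -⟩ := exists_regular_of_fibre φ I z (hz ▸ hflat y) hx hf
    exact ⟨V, hz ▸ hV, IsZariskiLocalAtTarget.restrict (P := @IsClosedImmersion) ‹_› V.1, rs, hrs,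
      (Scheme.Hom.ker_apply i V).symm.trans hI⟩
  exact key _ (φ.asFiber (i y)) (φ.fiberι_asFiber (i y))

theorem isRegularLocalRing_stalk_spec_field (K : Type u) [Field K] (x : Spec (CommRingCat.of K)) :
    IsRegularLocalRing ((Spec (CommRingCat.of K)).presheaf.stalk x) :=
  IsRegularLocalRing.of_ringEquiv (R := Localization.AtPrime x.asIdeal)
    (Spec.stalkIso (CommRingCat.of K) x).symm.commRingCatIsoToRingEquiv

/-- A section of a smooth morphism which is a closed immersion is a regular closed immersion. -/
theorem section_regular [Smooth φ] (σ : S ⟶ X) (hσ : σ ≫ φ = 𝟙 S) [IsClosedImmersion σ] :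
    Mor2.IsRegularClosedImmersion σ := by
  refine (regularClosedImmersion_iff σ).2 ⟨inferInstance, ?_⟩
  haveI : Flat (σ ≫ φ) := by rw [hσ]; infer_instance
  haveI : LocallyOfFinitePresentation (σ ≫ φ) := by rw [hσ]; infer_instance
  haveI : Flat φ := inferInstance
  refine regular_of_fibres φ σ (fun y => Flat.stalkMap φ (σ y)) fun s => ?_
  haveI := isLocallyNoetherian_fiber φ s
  let g := S.fromSpecResidueField s
  have hW : IsIso (pullback.snd (σ ≫ φ) g) := by
    rw [hσ]; infer_instance
  let e : pullback σ (φ.fiberι s) ≅ Spec (S.residueField s) :=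
    (pullbackRightPullbackFstIso φ g σ) ≪≫ asIso (pullback.snd (σ ≫ φ) g)
  haveI : IsLocallyNoetherian (pullback σ (φ.fiberι s)) := isLocallyNoetherian_of_isOpenImmersion e.hom
  haveI : Smooth (φ.fiberToSpecResidueField s) := MorphismProperty.pullback_snd (P := @Smooth) _ _ inferInstance
  haveI : IsLocallyNoetherian (Spec (S.residueField s)) := inferInstance
  refine (regular_iff_quasi _).1 (regular_of_regular_schemes _ ?_ ?_)
  · exact fun x => WeilExt.isRegularLocalRing_of_smooth (φ.fiberToSpecResidueField s)
      (isRegularLocalRing_stalk_spec_field (S.residueField s)) x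
  · exact fun x => WeilExt.isRegularLocalRing_of_smooth e.hom
      (isRegularLocalRing_stalk_spec_field (S.residueField s)) x

end Groth.Agent.RegImm26
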