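/-
Quasi-regular sequences with flat quotient: the graded pieces, flatness, base change.
-/
import Groth.Agent.Lib.QReg.Basic
import Groth.Agent.Lib.GrFlat.Basic
import Groth.Agent.Lib.FlatSyz.Kernel
import Mathlib.RingTheory.Filtration
import Mathlib.LinearAlgebra.TensorProduct.RightExactness

universe u

open MvPolynomial TensorProduct

namespace Groth.Agent.RegImm26

variable {B : Type u} [CommRing B] {c : ℕ} (f : Fin c → B)

/-- The exponents of total degree `n`. -/
abbrev Deg (c n : ℕ) : Type := {d : Fin c →₀ ℕ // d.degree = n}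

theorem prod_pow_mem_pow {n : ℕ} (d : Deg c n) :
    (∏ i, f i ^ d.1 i) ∈ Ideal.span (Set.range f) ^ n := by
  have : ∀ (s : Finset (Fin c)), (∏ i ∈ s, f i ^ d.1 i) ∈ Ideal.span (Set.range f) ^ (∑ i ∈ s, d.1 i) := by
    intro s
    rw [← Finset.prod_pow_eq_pow_sum]
    exact Ideal.prod_mem_prod fun i _ => Ideal.pow_mem_pow (Ideal.subset_span (Set.mem_range_self i)) _
  have h := this Finset.univ
  rwa [← Finsupp.degree_eq_sum, d.2] at h

/-- Multiplication by a monomial of degree `n` from `B/J` to `B/J^(n+1)`. -/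
noncomputable def grTerm (n : ℕ) (d : Deg c n) :
    (B ⧸ Ideal.span (Set.range f)) →ₗ[B] B ⧸ Ideal.span (Set.range f) ^ (n + 1) :=
  Submodule.mapQ _ _ (LinearMap.mulRight B (∏ i, f i ^ d.1 i)) fun b hb => by
    show b * _ ∈ Ideal.span (Set.range f) ^ (n + 1)
    rw [pow_succ']
    exact Ideal.mul_mem_mul hb (prod_pow_mem_pow f d)

/-- The map from the free module on monomials of degree `n` to `B/J^(n+1)`. -/
noncomputable def grMap (n : ℕ) :
    (Deg c n →₀ B ⧸ Ideal.span (Set.range f)) →ₗ[B] B ⧸ Ideal.span (Set.range f) ^ (n + 1) :=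
  Finsupp.lsum ℕ (grTerm f n)

/-- The polynomial with given coefficients in degree `n`. -/
noncomputable def degPoly (n : ℕ) (v : Deg c n →₀ B) : MvPolynomial (Fin c) B :=
  v.sum fun d b => monomial d.1 b

theorem degPoly_isHomogeneous (n : ℕ) (v : Deg c n →₀ B) : (degPoly n v).IsHomogeneous n :=
  IsHomogeneous.sum _ _ _ fun d _ => isHomogeneous_monomial _ d.2

theorem coeff_degPoly (n : ℕ) (v : Deg c n →₀ B) (d : Deg c n) : (degPoly n v).coeff d.1 = v d := by
  classical
  rw [degPoly, Finsupp.sum, coeff_sum, Finset.sum_eq_single d]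
  · rw [coeff_monomial, if_pos rfl]
  · intro e _ he
    rw [coeff_monomial, if_neg fun h => he (Subtype.ext h)]
  · intro h
    rw [coeff_monomial, if_pos rfl, Finsupp.notMem_support_iff.1 h]

theorem grMap_mk (n : ℕ) (v : Deg c n →₀ B) :
    grMap f n (v.mapRange (Ideal.Quotient.mk _) (map_zero _)) = Ideal.Quotient.mk _ (eval f (degPoly n v)) := by
  classical
  rw [grMap, Finsupp.lsum_apply, Finsupp.sum_mapRange_index (by simp), degPoly, map_finsuppSum, map_finsuppSum]
  refine Finsupp.sum_congr fun d _ => ?_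
  rw [eval_monomial, Finsupp.prod_fintype _ _ (fun i => pow_zero _)]
  rfl

theorem grMap_injective (hf : CAlgX.IsQuasiRegular f) (n : ℕ) : Function.Injective (grMap f n) := by
  rw [injective_iff_map_eq_zero]
  intro w hw
  obtain ⟨v, rfl⟩ := Finsupp.mapRange_surjective (Ideal.Quotient.mk (Ideal.span (Set.range f))) (map_zero _)
    Ideal.Quotient.mk_surjective w
  rw [grMap_mk, Ideal.Quotient.eq_zero_iff_mem] at hw
  ext d
  have := hf n _ (degPoly_isHomogeneous n v) hw d.1
  rw [coeff_degPoly] at this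
  simpa [Ideal.Quotient.eq_zero_iff_mem] using this

theorem grMap_exact (n : ℕ) :
    Function.Exact (grMap f n) (Submodule.factor
      (Ideal.pow_le_pow_right (I := Ideal.span (Set.range f)) (Nat.le_succ n))) := by
  classical
  intro z
  obtain ⟨x, rfl⟩ := Submodule.Quotient.mk_surjective _ z
  constructor
  · intro h
    have hx : x ∈ Ideal.span (Set.range f) ^ n := (Submodule.Quotient.mk_eq_zero _).1 (by exact h)
    obtain ⟨P, hP, hPx⟩ := QReg.exists_homogeneous_of_mem_pow (f := f) hx
    refine ⟨(Finsupp.comapDomain (Subtype.val : Deg c n → _) (Finsupp.ofSupportFinite (fun d => P.coeff d)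
      (P.support.finite_toSet.subset fun d hd => mem_support_iff.2 hd)) Subtype.val_injective.injOn).mapRange
      (Ideal.Quotient.mk _) (map_zero _), ?_⟩
    rw [grMap_mk]
    refine congrArg (Ideal.Quotient.mk _) ?_
    rw [← hPx]
    congr 1
    ext d
    by_cases hd : d.degree = n
    · rw [← Subtype.coe_mk (p := fun d : Fin c →₀ ℕ => d.degree = n) d hd, coeff_degPoly]
      rfl
    · rw [hP.coeff_eq_zero hd, (degPoly_isHomogeneous n _).coeff_eq_zero hd]
  · rintro ⟨w, hw⟩
    obtain ⟨v, rfl⟩ := Finsupp.mapRange_surjective (Ideal.Quotient.mk (Ideal.span (Set.range f))) (map_zero _)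
      Ideal.Quotient.mk_surjective w
    rw [← hw, grMap_mk]
    refine (Submodule.Quotient.mk_eq_zero _).2 ?_
    rw [degPoly, Finsupp.sum, map_sum]
    refine Submodule.sum_mem _ fun d _ => ?_
    rw [eval_monomial, Finsupp.prod_fintype _ _ (fun i => pow_zero _)]
    exact Ideal.mul_mem_left _ _ (prod_pow_mem_pow f d)

variable {A : Type u} [CommRing A] [Algebra A B]

/-- The projection `B/J^(n+1) → B/J^n`. -/
noncomputable def grProj (n : ℕ) :
    (B ⧸ Ideal.span (Set.range f) ^ (n + 1)) →ₐ[A] B ⧸ Ideal.span (Set.range f) ^ n :=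
  Ideal.Quotient.factorₐ A (Ideal.pow_le_pow_right (I := Ideal.span (Set.range f)) (Nat.le_succ n))

theorem grProj_surjective (n : ℕ) : Function.Surjective (grProj f n (A := A)).toLinearMap :=
  Ideal.Quotient.factor_surjective (Ideal.pow_le_pow_right (I := Ideal.span (Set.range f)) (Nat.le_succ n))

/-- The powers of a quasi-regular ideal with flat quotient have flat quotients. -/
theorem flat_quotient_pow (hf : CAlgX.IsQuasiRegular f) [Module.Flat A (B ⧸ Ideal.span (Set.range f))] (n : ℕ) :
    Module.Flat A (B ⧸ Ideal.span (Set.range f) ^ n) := by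
  induction n with
  | zero =>
    haveI : Subsingleton (B ⧸ Ideal.span (Set.range f) ^ 0) := by
      rw [pow_zero]; exact Ideal.Quotient.subsingleton_iff.2 Ideal.one_eq_top
    infer_instance
  | succ n ih =>
    haveI := ih
    haveI : Module.Flat A (Deg c n →₀ B ⧸ Ideal.span (Set.range f)) := by
      classical exact Module.Flat.of_linearEquiv (finsuppLEquivDirectSum A (B ⧸ Ideal.span (Set.range f)) (Deg c n))
    exact GrFlat.flat_middle (K := Deg c n →₀ B ⧸ Ideal.span (Set.range f))
      (F := B ⧸ Ideal.span (Set.range f) ^ (n + 1)) (M := B ⧸ Ideal.span (Set.range f) ^ n)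
      ((grMap f n).restrictScalars A) (grMap_injective f hf n)
      (grProj f n).toLinearMap (grMap_exact f n) (grProj_surjective f n)

/-- A Noetherian local algebra whose quotients by the powers of a proper ideal are flat is flat. -/
theorem flat_of_flat_quotient_pow [IsLocalRing B] [IsNoetherianRing B] (J : Ideal B) (hJ : J ≠ ⊤)
    (h : ∀ n, Module.Flat A (B ⧸ J ^ n)) : Module.Flat A B := by
  classical
  rw [Module.Flat.iff_rTensor_injective]
  intro I hI
  rw [← LinearMap.lTensor_inj_iff_rTensor_inj]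
  haveI : Module.Finite A ↥I := Module.Finite.iff_fg.2 hI
  haveI : Module.Finite B (B ⊗[A] ↥I) := Module.Finite.base_change A B ↥I
  rw [injective_iff_map_eq_zero]
  intro x hx
  have key : ∀ n, x ∈ J ^ n • (⊤ : Submodule B (B ⊗[A] ↥I)) := by
    intro n
    haveI := h n
    let P : Submodule A B := (J ^ n).restrictScalars A
    let q : B →ₗ[A] B ⧸ J ^ n := (Ideal.Quotient.mkₐ A (J ^ n)).toLinearMap
    have hex : Function.Exact P.subtype q := fun b =>
      ⟨fun hb => ⟨⟨b, Ideal.Quotient.eq_zero_iff_mem.1 hb⟩, rfl⟩,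
        fun ⟨y, hy⟩ => hy ▸ Ideal.Quotient.eq_zero_iff_mem.2 y.2⟩
    have hq : Function.Surjective q := Ideal.Quotient.mk_surjective
    have h1 : q.rTensor ↥I x = 0 := by
      apply Module.Flat.lTensor_preserves_injective_linearMap (M := B ⧸ J ^ n) I.subtype I.injective_subtype
      rw [← LinearMap.comp_apply, LinearMap.lTensor_comp_rTensor, ← LinearMap.rTensor_comp_lTensor,
        LinearMap.comp_apply, hx, map_zero, map_zero]
    obtain ⟨y, rfl⟩ := (_root_.rTensor_exact (R := A) ↥I hex hq x).1 h1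
    clear hx h1
    induction y using TensorProduct.induction_on with
    | zero => rw [map_zero]; exact zero_mem _
    | add a b ha hb => rw [map_add]; exact add_mem ha hb
    | tmul a i =>
      have : P.subtype.rTensor ↥I (a ⊗ₜ i) = (a : B) • ((1 : B) ⊗ₜ[A] i) := by
        rw [LinearMap.rTensor_tmul, TensorProduct.smul_tmul', smul_eq_mul, mul_one]
        rfl
      rw [this]
      exact Submodule.smul_mem_smul (show (a : B) ∈ J ^ n from a.2) Submodule.mem_top
  have h2 : x ∈ (⨅ n, J ^ n • ⊤ : Submodule B (B ⊗[A] ↥I)) :=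
    Submodule.mem_iInf _ |>.2 key
  rwa [Ideal.iInf_pow_smul_eq_bot_of_isLocalRing J hJ, Submodule.mem_bot] at h2

theorem lTensor_lapply_lsingle_self {R : Type u} [CommRing R] {M N : Type u} [AddCommGroup M] [Module R M]
    [AddCommGroup N] [Module R N] {ι : Type*} (i : ι) (x : N ⊗[R] M) :
    (Finsupp.lapply (R := R) i).lTensor N ((Finsupp.lsingle (R := R) i).lTensor N x) = x := by
  induction x using TensorProduct.induction_on with
  | zero => simp
  | add a b ha hb => simp only [map_add, ha, hb]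
  | tmul a b => simp

theorem lTensor_lapply_lsingle_ne {R : Type u} [CommRing R] {M N : Type u} [AddCommGroup M] [Module R M]
    [AddCommGroup N] [Module R N] {ι : Type*} {i j : ι} (h : j ≠ i) (x : N ⊗[R] M) :
    (Finsupp.lapply (R := R) i).lTensor N ((Finsupp.lsingle (R := R) j).lTensor N x) = 0 := by
  classical
  induction x using TensorProduct.induction_on with
  | zero => simp
  | add a b ha hb => simp only [map_add, ha, hb, add_zero]
  | tmul a b => simp [Finsupp.single_apply, h]

/-- Base change of quasi-regular sequences with flat quotient. -/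
theorem isQuasiRegular_baseChange (A' : Type u) [CommRing A'] [Algebra A A']
    (hf : CAlgX.IsQuasiRegular f) [Module.Flat A (B ⧸ Ideal.span (Set.range f))] :
    CAlgX.IsQuasiRegular fun i => ((1 : A') ⊗ₜ[A] f i : A' ⊗[A] B) := by
  classical
  intro n P hP hev d₀
  set J := Ideal.span (Set.range f) with hJdef
  let ι : B →ₐ[A] A' ⊗[A] B := Algebra.TensorProduct.includeRight
  have hspan : Ideal.span (Set.range fun i => ((1 : A') ⊗ₜ[A] f i : A' ⊗[A] B)) = J.map ι := by
    rw [hJdef, Ideal.map_span, ← Set.range_comp]; rfl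
  rw [hspan] at hev ⊢
  rw [← Ideal.map_pow] at hev
  have hker : ∀ K : Ideal B, RingHom.ker (Algebra.TensorProduct.map (AlgHom.id A A') (Ideal.Quotient.mkₐ A K)) = K.map ι := by
    intro K
    rw [Algebra.TensorProduct.lTensor_ker _ (Ideal.Quotient.mkₐ_surjective A K)]
    exact congrArg (Ideal.map ι) (Ideal.Quotient.mkₐ_ker A K)
  rw [← hker, RingHom.mem_ker] at hev
  rw [← hker, RingHom.mem_ker]
  by_cases hd₀ : d₀ ∈ P.support
  swap
  · rw [notMem_support_iff.1 hd₀, map_zero]
  have hdeg : ∀ d ∈ P.support, d.degree = n := fun d hd => by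
    rw [Finsupp.degree_eq_weight_one]; exact hP (mem_support_iff.1 hd)
  let π := Algebra.TensorProduct.map (AlgHom.id A A') (Ideal.Quotient.mkₐ A (J ^ (n + 1)))
  let πJ := Algebra.TensorProduct.map (AlgHom.id A A') (Ideal.Quotient.mkₐ A J)
  let G := ((grMap f n).restrictScalars A).lTensor A'
  let s : Deg c n → (A' ⊗[A] (B ⧸ J)) →ₗ[A] A' ⊗[A] (Deg c n →₀ B ⧸ J) :=
    fun d => (Finsupp.lsingle (R := A) (M := B ⧸ J) d).lTensor A'
  have hterm : ∀ (d : Deg c n) (x : A' ⊗[A] B), G (s d (πJ x)) = π (x * ι (∏ i, f i ^ d.1 i)) := by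
    intro d x
    induction x using TensorProduct.induction_on with
    | zero => simp [G, s]
    | add a b ha hb => simp only [map_add, add_mul, ha, hb]
    | tmul a b =>
      have h1 : grMap f n (Finsupp.single d (Ideal.Quotient.mk J b)) =
          Ideal.Quotient.mk (J ^ (n + 1)) (b * ∏ i, f i ^ d.1 i) := by
        rw [grMap, Finsupp.lsum_single]
        rfl
      have h2 : (a ⊗ₜ[A] b) * ι (∏ i, f i ^ d.1 i) = a ⊗ₜ[A] (b * ∏ i, f i ^ d.1 i) := by
        simp only [ι, Algebra.TensorProduct.includeRight_apply, Algebra.TensorProduct.tmul_mul_tmul, mul_one]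
      rw [h2]
      show a ⊗ₜ[A] grMap f n (Finsupp.single d (Ideal.Quotient.mk J b)) = a ⊗ₜ[A] Ideal.Quotient.mk (J ^ (n + 1)) _
      rw [h1]
  let z : A' ⊗[A] (Deg c n →₀ B ⧸ J) :=
    ∑ d : ↥P.support, s ⟨d.1, hdeg d.1 d.2⟩ (πJ (P.coeff d.1))
  have hz : G z = 0 := by
    rw [map_sum]
    simp only [hterm]
    rw [← map_sum]
    refine Eq.trans (congrArg π ?_) hev
    rw [Finset.sum_coe_sort P.support (fun d => P.coeff d * ι (∏ i, f i ^ d i))]
    conv_rhs => rw [P.as_sum, map_sum]
    refine Finset.sum_congr rfl fun d _ => ?_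
    rw [eval_monomial, Finsupp.prod_fintype _ _ (fun i => pow_zero _), map_prod]
    simp [ι]
  haveI := flat_quotient_pow (A := A) f hf n
  have hinj : Function.Injective G :=
    FlatSyz.lTensor_subtype_injective_of_flat_quotient (R := A) (K := Deg c n →₀ B ⧸ J) (X := B ⧸ J ^ (n + 1))
      (M := B ⧸ J ^ n) ((grMap f n).restrictScalars A) (grMap_injective f hf n)
      (grProj f n).toLinearMap (grMap_exact f n) (grProj_surjective f n) A'
  have hz0 : z = 0 := hinj (hz.trans (map_zero _).symm)
  have h3 := congrArg ((Finsupp.lapply (R := A) (M := B ⧸ J) (⟨d₀, hdeg d₀ hd₀⟩ : Deg c n)).lTensor A') hz0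
  rw [map_zero, map_sum] at h3
  rw [Finset.sum_eq_single ⟨d₀, hd₀⟩] at h3
  · have e : (Finsupp.lapply (R := A) (M := B ⧸ J) (⟨d₀, hdeg d₀ hd₀⟩ : Deg c n)).lTensor A'
        (s ⟨d₀, hdeg d₀ hd₀⟩ (πJ (P.coeff d₀))) = πJ (P.coeff d₀) :=
      lTensor_lapply_lsingle_self (R := A) (M := B ⧸ J) (N := A') (⟨d₀, hdeg d₀ hd₀⟩ : Deg c n) (πJ (P.coeff d₀))
    have e2 : πJ (P.coeff d₀) = 0 := e.symm.trans h3
    exact e2
  · intro d _ hne
    exact lTensor_lapply_lsingle_ne (R := A) (M := B ⧸ J) (N := A') (i := (⟨d₀, hdeg d₀ hd₀⟩ : Deg c n))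
      (j := (⟨d.1, hdeg d.1 d.2⟩ : Deg c n)) (fun h => hne (Subtype.ext (congrArg (fun e : Deg c n => e.1) h :))) (πJ (P.coeff d.1))
  · intro h
    exact absurd (Finset.mem_univ _) h

end Groth.Agent.RegImm26
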