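/-
Base change of relative H1-regular and quasi-regular immersions.
-/
import Groth.Agent.Lib.RegImm26.FlatQuot
import Groth.Agent.Lib.RegSeq26.FlatBC
import Groth.Agent.S9273
import Mathlib.AlgebraicGeometry.Morphisms.Flat
import Mathlib.RingTheory.IsTensorProduct

universe u

open CategoryTheory CategoryTheory.Limits AlgebraicGeometry TopologicalSpace TensorProduct

set_option backward.isDefEq.respectTransparency.types false

namespace Groth.Agent.RegImm26

theorem span_range_get {R : Type u} [CommRing R] (rs : List R) :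
    Ideal.span (Set.range rs.get) = Ideal.ofList rs := by
  rw [Set.range_list_get]

section Ring

variable {A B B' : Type u} [CommRing A] [CommRing B] [CommRing B'] [Algebra A B]
  [Algebra B B'] [Algebra A B'] [IsScalarTower A B B']

/-- `H1`- and quasi-regular sequences with flat quotient survive every base change. -/
theorem seq_baseChange (A' : Type u) [CommRing A'] [Algebra A A'] [Algebra A' B'] [IsScalarTower A A' B']
    [Algebra.IsPushout A A' B B'] {k : RegImm.Kind} (hk : k = .h1 ∨ k = .quasi) {rs : List B} (h : k.Seq B rs)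
    [Module.Flat A (B ⧸ Ideal.ofList rs)] : k.Seq B' (rs.map (algebraMap B B')) := by
  haveI : Module.Flat A (B ⧸ Ideal.span (Set.range rs.get)) := by rw [span_range_get]; infer_instance
  let e : A' ⊗[A] B ≃ₐ[A'] B' := Algebra.IsPushout.equiv A A' B B'
  letI : Algebra (A' ⊗[A] B) B' := e.toRingEquiv.toRingHom.toAlgebra
  haveI : Module.Flat (A' ⊗[A] B) B' := RingHom.Flat.of_bijective (f := e.toRingEquiv.toRingHom) e.bijective
  have he : ∀ b : B, algebraMap (A' ⊗[A] B) B' ((1 : A') ⊗ₜ[A] b) = algebraMap B B' b := fun b => by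
    show e (1 ⊗ₜ b) = _
    rw [Algebra.IsPushout.equiv_tmul, map_one, one_mul]
  obtain rfl | rfl := hk
  · refine RegSeq26.transfer_h1 _ rs ?_
    have h2 := RegSeq26.isH1Regular_of_flat (B := B') (S9273.result A B A' _ rs.get ‹_› h)
    simpa only [he, List.get_eq_getElem] using! h2
  · refine RegSeq26.transfer_quasi _ rs ?_
    have h2 := RegSeq26.isQuasiRegular_of_flat (B := B') (isQuasiRegular_baseChange (A := A) rs.get A' h)
    simpa only [he, List.get_eq_getElem] using! h2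

end Ring

variable {Z X S : Scheme.{u}} (f : X ⟶ S) (i : Z ⟶ X)

/-- A regular immersion of kind `h1` or `quasi` near a point, on a small chart. -/
theorem exists_small_chart {k : RegImm.Kind} (hk : k = .h1 ∨ k = .quasi) [IsImmersion i] (z : Z)
    (h : RegImm.IsRegularImmersionAt k i z) {O : X.Opens} (hO : i z ∈ O) :
    ∃ U : X.affineOpens, i z ∈ U.1 ∧ U.1 ≤ O ∧ IsClosedImmersion (i ∣_ U.1) ∧
      ∃ rs : List Γ(X, U.1), k.Seq Γ(X, U.1) rs ∧ RingHom.ker (i.app U.1).hom = Ideal.ofList rs := by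
  obtain ⟨U, hzU, hcl, rs, hrs, hker⟩ := h
  haveI := hcl
  obtain ⟨_, ⟨V, hV, rfl⟩, hzV, hle⟩ :=
    X.isBasis_affineOpens.exists_subset_of_mem_open (show i z ∈ U.1 ⊓ O from ⟨hzU, hO⟩) (U.1 ⊓ O).2
  have hVU : V ≤ (𝟙 X : X ⟶ X) ⁻¹ᵁ U.1 := fun x hx => (hle hx).1
  have hsq : IsPullback (𝟙 Z) i i (𝟙 X) := IsPullback.of_horiz_isIso ⟨by simp⟩
  refine ⟨⟨V, hV⟩, hzV, fun x hx => (hle hx).2, CI2.isClosedImmersion_restrict_of_isPullback i (𝟙 X) i (𝟙 Z) hsq hVU,
    rs.map ((𝟙 X : X ⟶ X).appLE U.1 V hVU).hom, ?_, ?_⟩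
  · letI : Algebra Γ(X, U.1) Γ(X, V) := ((𝟙 X : X ⟶ X).appLE U.1 V hVU).hom.toAlgebra
    haveI : Module.Flat Γ(X, U.1) Γ(X, V) := Scheme.Hom.flat_appLE (𝟙 X) U.2 hV hVU
    obtain rfl | rfl := hk
    · exact RegSeq26.transfer_h1 _ rs (RegSeq26.isH1Regular_of_flat hrs)
    · exact RegSeq26.transfer_quasi _ rs (RegSeq26.isQuasiRegular_of_flat hrs)
  · rw [CI2.ker_app_of_isPullback i (𝟙 X) i (𝟙 Z) hsq U.2 hV hVU, hker, Ideal.map_ofList]

/-- The flat quotient of a chart of a relative immersion. -/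
theorem flat_chart [Flat (i ≫ f)] {U : X.Opens} (hU : IsAffineOpen U) [IsClosedImmersion (i ∣_ U)]
    {W : S.Opens} (hW : IsAffineOpen W) (e : U ≤ f ⁻¹ᵁ W) :
    letI := (f.appLE W U e).hom.toAlgebra
    Module.Flat Γ(S, W) (Γ(X, U) ⧸ RingHom.ker (i.app U).hom) := by
  letI := (f.appLE W U e).hom.toAlgebra
  obtain ⟨hZ, hs⟩ := CI2.surjective_app_of_closed i hU
  have e' : i ⁻¹ᵁ U ≤ (i ≫ f) ⁻¹ᵁ W := fun x hx => e hx
  letI : Algebra Γ(S, W) Γ(Z, i ⁻¹ᵁ U) := ((i ≫ f).appLE W (i ⁻¹ᵁ U) e').hom.toAlgebra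
  haveI : Module.Flat Γ(S, W) Γ(Z, i ⁻¹ᵁ U) := Scheme.Hom.flat_appLE (i ≫ f) hW hZ e'
  let φ : Γ(X, U) →ₐ[Γ(S, W)] Γ(Z, i ⁻¹ᵁ U) :=
    { (i.app U).hom with
      commutes' := fun a => by
        show (f.appLE W U e ≫ i.app U).hom a = ((i ≫ f).appLE W (i ⁻¹ᵁ U) e').hom a
        rw [Scheme.Hom.app_eq_appLE, Scheme.Hom.appLE_comp_appLE] }
  exact Module.Flat.of_linearEquiv (Ideal.quotientKerAlgEquivOfSurjective (f := φ) hs).toLinearEquiv

/-- Base change of relative `H1`-regular and quasi-regular immersions. -/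
theorem relRegular_baseChange {S' : Scheme.{u}} {k : RegImm.Kind} (hk : k = .h1 ∨ k = .quasi)
    (hi : RegImm.IsRelRegularImmersion k f i) (g : S' ⟶ S) :
    RegImm.IsRelRegularImmersion k (pullback.snd f g) (pullback.snd i (pullback.fst f g)) := by
  haveI := hi.1.1
  haveI := hi.2
  set p := pullback.fst f g
  set q := pullback.snd f g
  have hsq : IsPullback (pullback.fst i p) (pullback.snd i p) i p := IsPullback.of_hasPullback i p
  haveI hflat : Flat (pullback.snd i p ≫ q) := by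
    have h2 : IsPullback (pullback.fst i p) (pullback.snd i p ≫ q) (i ≫ f) g :=
      hsq.paste_vert (IsPullback.of_hasPullback f g)
    exact MorphismProperty.of_isPullback h2 hi.2
  haveI : IsImmersion (pullback.snd i p) := MorphismProperty.of_isPullback hsq hi.1.1
  refine ⟨⟨inferInstance, fun z => ?_⟩, hflat⟩
  let z₀ := pullback.fst i p z
  let x' := pullback.snd i p z
  have hx : p x' = i z₀ := by
    show (pullback.snd i p ≫ p) z = (pullback.fst i p ≫ i) z
    rw [pullback.condition]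
  obtain ⟨_, ⟨W, hW, rfl⟩, hxW, -⟩ :=
    S.isBasis_affineOpens.exists_subset_of_mem_open (Set.mem_univ (f (i z₀))) isOpen_univ
  obtain ⟨⟨U, hU⟩, hzU, hUW, hcl, rs, hrs, hker⟩ := exists_small_chart i hk z₀ (hi.1.2 z₀) (O := f ⁻¹ᵁ W) hxW
  haveI := hcl
  have hgq : g (q x') = f (p x') := by
    show (q ≫ g) x' = (p ≫ f) x'
    rw [pullback.condition]
  have hxW' : q x' ∈ g ⁻¹ᵁ W := by
    rw [Scheme.Hom.mem_preimage, hgq, hx]; exact hxW
  obtain ⟨_, ⟨W', hW', rfl⟩, hqW', hW'W⟩ := S'.isBasis_affineOpens.exists_subset_of_mem_open hxW' (g ⁻¹ᵁ W).2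
  let V := p ⁻¹ᵁ U ⊓ q ⁻¹ᵁ W'
  have H : IsPullback p q f g := IsPullback.of_hasPullback f g
  haveI : IsAffine (U : Scheme.{u}) := hU
  haveI : IsAffine (W : Scheme.{u}) := hW
  haveI : IsAffine (W' : Scheme.{u}) := hW'
  have hV : IsAffineOpen V :=
    .of_isIso (Scheme.Hom.isPullback_resLE H hW'W hUW (UY := V) rfl).isoPullback.hom
  have hVU : V ≤ p ⁻¹ᵁ U := inf_le_left
  have hpush := (isIso_pushoutSection_iff H hW'W hUW (hUY := rfl)).1
    (isIso_pushoutSection_of_isAffineOpen H hW'W hUW rfl hW hW' hU)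
  refine ⟨⟨V, hV⟩, ⟨(show p x' ∈ U by rw [hx]; exact hzU), hqW'⟩, CI2.isClosedImmersion_restrict_of_isPullback i p _ _ hsq hVU,
    rs.map (p.appLE U V hVU).hom, ?_, by
      rw [CI2.ker_app_of_isPullback i p _ _ hsq hU hV hVU, hker, Ideal.map_ofList]⟩
  letI := (f.appLE W U hUW).hom.toAlgebra
  letI := (g.appLE W W' hW'W).hom.toAlgebra
  letI := (p.appLE U V hVU).hom.toAlgebra
  letI := (q.appLE W' V inf_le_right).hom.toAlgebra
  letI : Algebra Γ(S, W) Γ(pullback f g, V) := (f.appLE W U hUW ≫ p.appLE U V hVU).hom.toAlgebra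
  haveI : IsScalarTower Γ(S, W) Γ(X, U) Γ(pullback f g, V) := IsScalarTower.of_algebraMap_eq' rfl
  haveI : IsScalarTower Γ(S, W) Γ(S', W') Γ(pullback f g, V) := IsScalarTower.of_algebraMap_eq' (by
    show (f.appLE W U hUW ≫ p.appLE U V hVU).hom = (g.appLE W W' hW'W ≫ q.appLE W' V inf_le_right).hom
    rw [hpush.w])
  haveI : Algebra.IsPushout Γ(S, W) Γ(S', W') Γ(X, U) Γ(pullback f g, V) :=
    CommRingCat.isPushout_iff_isPushout.1 hpush.flip
  haveI : Module.Flat Γ(S, W) (Γ(X, U) ⧸ Ideal.ofList rs) := hker ▸ flat_chart f i hU hW hUW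
  exact seq_baseChange (A := Γ(S, W)) (A' := Γ(S', W')) (B := Γ(X, U)) hk hrs

end Groth.Agent.RegImm26
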