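/-
Relative quasi-regular immersions into flat finitely presented schemes are regular.
-/
import Groth.Agent.Lib.RegImm26.RelBC
import Groth.Agent.Lib.RegImm26.Apps
import Mathlib.AlgebraicGeometry.Morphisms.FinitePresentation

universe u

open CategoryTheory CategoryTheory.Limits AlgebraicGeometry TopologicalSpace

set_option backward.isDefEq.respectTransparency.types false

namespace Groth.Agent.RegImm26

variable {Z X S : Scheme.{u}} (f : X ⟶ S) (i : Z ⟶ X)

theorem ker_restrict_app' (V : X.Opens) (W : (V : Scheme.{u}).Opens) :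
    RingHom.ker ((i ∣_ V).app W).hom = RingHom.ker (i.app (V.ι ''ᵁ W)).hom := by
  rw [morphismRestrict_app]
  exact RingHom.ker_comp_of_injective _ (ConcreteCategory.bijective_of_isIso
    (Z.presheaf.map (eqToHom (image_morphismRestrict_preimage i V W)).op)).injective

theorem isRegularImmersionAt_of_restrict {k : RegImm.Kind} [IsImmersion i] (V : X.Opens) (y : ↑(i ⁻¹ᵁ V))
    (h : RegImm.IsRegularImmersionAt k (i ∣_ V) y) :
    RegImm.IsRegularImmersionAt k i ((i ⁻¹ᵁ V).ι y) := by
  obtain ⟨⟨W, hW⟩, hy, hcl, rs, hrs, hker⟩ := h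
  have hy' : i ((i ⁻¹ᵁ V).ι y) = V.ι ((i ∣_ V) y) := by
    rw [← Scheme.Hom.comp_apply, ← morphismRestrict_ι, Scheme.Hom.comp_apply]
  refine ⟨⟨V.ι ''ᵁ W, hW.image_of_isOpenImmersion V.ι⟩, hy' ▸ ⟨_, hy, rfl⟩, ?_, rs, hrs, ?_⟩
  · exact (MorphismProperty.arrow_mk_iso_iff @IsClosedImmersion (morphismRestrictRestrict i V W)).1 hcl
  · rw [← ker_restrict_app']; exact hker

theorem lfp_of_chart {k : RegImm.Kind} {U : X.Opens} (hU : IsAffineOpen U) [IsClosedImmersion (i ∣_ U)]
    {rs : List Γ(X, U)} (hker : RingHom.ker (i.app U).hom = Ideal.ofList rs) :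
    LocallyOfFinitePresentation (i ∣_ U) := by
  haveI : IsAffine (U : Scheme.{u}) := hU
  obtain ⟨hZ, hs⟩ := CI2.surjective_app_of_closed i hU
  haveI : IsAffine (i ⁻¹ᵁ U : Scheme.{u}) := hZ
  rw [HasRingHomProperty.iff_of_isAffine (P := @LocallyOfFinitePresentation)]
  have hs' : Function.Surjective (i ∣_ U).appTop.hom := (IsClosedImmersion.isAffine_surjective_of_isAffine (i ∣_ U)).2
  refine RingHom.FinitePresentation.of_surjective _ hs' ?_
  have e : U.ι ''ᵁ ⊤ = U := by simp
  classical
  have key : ∀ (V : X.Opens) (hV : V = U), (RingHom.ker (i.app V).hom).FG := by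
    intro V hV; subst hV
    exact ⟨rs.toFinset, by rw [hker]; exact congrArg Ideal.span (Set.ext fun a => List.mem_toFinset)⟩
  exact (congrArg Submodule.FG (ker_restrict_app' i U ⊤)).mpr (key _ e)

theorem regular_of_relQuasi [Flat f] [LocallyOfFinitePresentation f]
    (hi : RegImm.IsRelRegularImmersion .quasi f i) : RegImm.IsRegularImmersion .regular i := by
  haveI := hi.1.1
  haveI := hi.2
  refine ⟨inferInstance, fun z => ?_⟩
  obtain ⟨⟨U, hU⟩, hzU, hcl, rs, -, hker⟩ := hi.1.2 z
  haveI := hcl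
  let j := i ∣_ U
  let φ := U.ι ≫ f
  haveI : LocallyOfFinitePresentation j := lfp_of_chart (k := .quasi) i hU hker
  have e : j ≫ φ = (i ⁻¹ᵁ U).ι ≫ (i ≫ f) := morphismRestrict_ι_assoc i U f
  haveI : Flat (j ≫ φ) := by rw [e]; infer_instance
  haveI : LocallyOfFinitePresentation (j ≫ φ) := inferInstance
  have hj : RegImm.IsRelRegularImmersion .quasi φ j :=
    ⟨RegSeq26.isRegularImmersion_baseChange .quasi i U.ι j (i ⁻¹ᵁ U).ι (isPullback_morphismRestrict i U).flip hi.1,
      inferInstance⟩
  have hreg := regular_of_fibres φ j (fun y => Flat.stalkMap φ _)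
    fun s => (relRegular_baseChange φ j (Or.inr rfl) hj (S.fromSpecResidueField s)).1
  exact isRegularImmersionAt_of_restrict i U ⟨z, hzU⟩ (hreg.2 _)

theorem regular_baseChange_of_relQuasi [Flat f] [LocallyOfFinitePresentation f]
    (hi : RegImm.IsRelRegularImmersion .quasi f i) {S' : Scheme.{u}} (g : S' ⟶ S) :
    RegImm.IsRegularImmersion .regular (pullback.snd i (pullback.fst f g)) := by
  haveI : Flat (pullback.snd f g) := inferInstance
  haveI : LocallyOfFinitePresentation (pullback.snd f g) :=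
    MorphismProperty.pullback_snd (P := @LocallyOfFinitePresentation) _ _ inferInstance
  exact regular_of_relQuasi (pullback.snd f g) _ (relRegular_baseChange f i (Or.inr rfl) hi g)

end Groth.Agent.RegImm26
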