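/-
Closed subschemes of smooth schemes with complete intersection fibres.
-/
import Groth.Agent.Lib.RegImm26.RelReg
import Groth.Agent.Lib.CI2.AvramovCI
import Groth.Prelude.Def_CInt

universe u

open CategoryTheory CategoryTheory.Limits AlgebraicGeometry TopologicalSpace

set_option backward.isDefEq.respectTransparency.types false

namespace Groth.Agent.RegImm26

theorem ci_fiber_of_ci_fiberStalk {Y S : Scheme.{u}} (f : Y ⟶ S)
    (h : ∀ y : Y, Pi1.IsCompleteIntersection (CInt.fiberStalk f y)) (s : S) (q : f.fiber s) :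
    Pi1.IsCompleteIntersection ((f.fiber s).presheaf.stalk q) := by
  have hs : f (f.fiberι s q) = s := by
    have : f.fiberι s q ∈ Set.range (f.fiberι s) := ⟨q, rfl⟩
    rwa [f.range_fiberι] at this
  have key : ∀ (s : S) (q : f.fiber s) (x : Y), f.fiberι s q = x → f x = s →
      Pi1.IsCompleteIntersection ((f.fiber s).presheaf.stalk q) := by
    intro s q x hq hx
    subst hx
    have : q = f.asFiber x := (f.fiberι (f x)).isEmbedding.injective (hq.trans (f.fiberι_asFiber x).symm)
    subst this
    exact h x
  exact key s q _ rfl hs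

theorem regular_of_ci_fibres {X Y S : Scheme.{u}} (p : X ⟶ S) [Smooth p] (i : Y ⟶ X) [IsClosedImmersion i]
    (hY : CInt.IsCIMorphism (i ≫ p)) : Mor2.IsRegularClosedImmersion i := by
  obtain ⟨hflat, hlfp, hci⟩ := hY
  haveI := hflat
  haveI := hlfp
  haveI : Flat p := inferInstance
  refine (regularClosedImmersion_iff i).2 ⟨inferInstance, regular_of_fibres p i (fun y => Flat.stalkMap p _) fun s => ?_⟩
  haveI := isLocallyNoetherian_fiber p s
  haveI : Smooth (p.fiberToSpecResidueField s) := MorphismProperty.pullback_snd (P := @Smooth) _ _ inferInstance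
  let j := pullback.snd i (p.fiberι s)
  haveI : IsClosedImmersion j := MorphismProperty.pullback_snd (P := @IsClosedImmersion) _ _ inferInstance
  let e : pullback i (p.fiberι s) ≅ (i ≫ p).fiber s := pullbackRightPullbackFstIso p (S.fromSpecResidueField s) i
  haveI := isLocallyNoetherian_fiber (i ≫ p) s
  haveI : IsLocallyNoetherian (pullback i (p.fiberι s)) := isLocallyNoetherian_of_isOpenImmersion e.hom
  refine (regular_iff_quasi _).1 ⟨inferInstance, fun w => ?_⟩
  haveI : IsRegularLocalRing ((p.fiber s).presheaf.stalk (j w)) :=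
    WeilExt.isRegularLocalRing_of_smooth (p.fiberToSpecResidueField s)
      (isRegularLocalRing_stalk_spec_field (S.residueField s)) (j w)
  have hw : Pi1.IsCompleteIntersection ((pullback i (p.fiberι s)).presheaf.stalk w) :=
    CI2.ci_congr (asIso (e.hom.stalkMap w)).commRingCatIsoToRingEquiv
      (ci_fiber_of_ci_fiberStalk (i ≫ p) hci s (e.hom w))
  obtain ⟨rs, hrs, hker⟩ := (CI2.ci_iff_ker (j.stalkMap w).hom (j.stalkMap_surjective w)).1 hw
  obtain ⟨V, hV, hreg⟩ := (regular_near_iff j w).2 ⟨rs, hrs, hker.symm⟩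
  exact isRegularImmersionAt_of_restrict j V ⟨w, hV⟩ (((regularClosedImmersion_iff _).1 hreg).2.2 _)

end Groth.Agent.RegImm26
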