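/-
Flatness of the ambient scheme along a relative quasi-regular immersion.
-/
import Groth.Agent.Lib.RegImm26.RelBC
import Groth.Agent.Lib.FlatH4.FlatComp
import Groth.Agent.Lib.FlatH4.FlatLocusScheme
import Mathlib.RingTheory.TensorProduct.Quotient

universe u

open CategoryTheory CategoryTheory.Limits AlgebraicGeometry TopologicalSpace TensorProduct

set_option backward.isDefEq.respectTransparency.types false

namespace Groth.Agent.RegImm26

/-- At a Noetherian local ring on a quasi-regular ideal with flat quotient, the algebra is flat. -/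
theorem flat_atPrime_of_quasi {A B : Type u} [CommRing A] [CommRing B] [Algebra A B] {c : ℕ} (f : Fin c → B)
    (hf : CAlgX.IsQuasiRegular f) [Module.Flat A (B ⧸ Ideal.span (Set.range f))] (q : Ideal B) [q.IsPrime]
    (hq : Ideal.span (Set.range f) ≤ q) [IsNoetherianRing (Localization.AtPrime q)] :
    Module.Flat A (Localization.AtPrime q) := by
  let L := Localization.AtPrime q
  let J := Ideal.span (Set.range f)
  refine flat_of_flat_quotient_pow (J.map (algebraMap B L)) (fun h => ?_) fun n => ?_
  · have := Localization.AtPrime.map_eq_maximalIdeal (I := q)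
    exact (IsLocalRing.maximalIdeal.isMaximal L).ne_top
      (top_le_iff.1 ((h.symm.le.trans (Ideal.map_mono hq)).trans_eq this))
  · haveI := flat_quotient_pow (A := A) f hf n
    haveI : Module.Flat A (L ⊗[B] (B ⧸ J ^ n)) := FlatH4.flat_tensor_of_flat
    rw [← Ideal.map_pow]
    exact Module.Flat.of_linearEquiv
      (((Algebra.TensorProduct.quotIdealMapEquivTensorQuot L (J ^ n)).restrictScalars A).toLinearEquiv)

theorem flat_stalkMap_of_relQuasi {Z X S : Scheme.{u}} (f : X ⟶ S) (i : Z ⟶ X)
    (hi : RegImm.IsRelRegularImmersion .quasi f i) (z : Z) [IsNoetherianRing (X.presheaf.stalk (i z))] :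
    (f.stalkMap (i z)).hom.Flat := by
  haveI := hi.1.1
  haveI := hi.2
  obtain ⟨_, ⟨W, hW, rfl⟩, hxW, -⟩ :=
    S.isBasis_affineOpens.exists_subset_of_mem_open (Set.mem_univ (f (i z))) isOpen_univ
  obtain ⟨⟨U, hU⟩, hzU, hUW, hcl, rs, hrs, hker⟩ :=
    exists_small_chart i (Or.inr rfl) z (hi.1.2 z) (O := f ⁻¹ᵁ W) hxW
  haveI := hcl
  rw [FlatH4.flat_stalkMap_iff f W hW U hU hUW hzU]
  letI := (f.appLE W U hUW).hom.toAlgebra
  rw [FlatH4.flat_localization_iff]
  set q := (hU.primeIdealOf ⟨i z, hzU⟩).asIdeal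
  letI : Algebra Γ(X, U) (X.presheaf.stalk (i z)) := (X.presheaf.germ U (i z) hzU).hom.toAlgebra
  haveI : IsLocalization.AtPrime (X.presheaf.stalk (i z)) q := hU.isLocalization_stalk ⟨i z, hzU⟩
  haveI : IsNoetherianRing (Localization.AtPrime q) :=
    isNoetherianRing_of_ringEquiv _
      (IsLocalization.algEquiv q.primeCompl (X.presheaf.stalk (i z)) (Localization.AtPrime q)).toRingEquiv
  haveI : Module.Flat Γ(S, W) (Γ(X, U) ⧸ Ideal.span (Set.range rs.get)) := by
    rw [span_range_get, ← hker]; exact flat_chart f i hU hW hUW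
  refine flat_atPrime_of_quasi rs.get hrs q ?_
  rw [span_range_get, ← hker]
  intro a ha
  rw [← Ideal.Quotient.eq_zero_iff_mem]
  by_contra hne
  have hu : IsUnit (algebraMap Γ(X, U) (X.presheaf.stalk (i z)) a) :=
    IsLocalization.map_units (M := q.primeCompl) _ ⟨a, fun h => hne (Ideal.Quotient.eq_zero_iff_mem.2 h)⟩
  have h0 : (i.stalkMap z).hom (X.presheaf.germ U (i z) hzU a) = 0 := by
    rw [Scheme.Hom.germ_stalkMap_apply, show (i.app U).hom a = 0 from ha, map_zero]
  exact not_isUnit_zero (h0 ▸ hu.map (i.stalkMap z).hom)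

end Groth.Agent.RegImm26
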