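/-
An H1-regular sequence with flat quotient in a finitely presented algebra forces flatness.
-/
import Groth.Agent.Lib.RegImm26.RelFlat
import Groth.Agent.Lib.FlatH4.DescendIso
import Groth.Agent.Lib.FlatH4.NoethApprox
import Groth.Agent.Lib.FlatH4.FlatDescent
import Groth.Agent.Lib.FlatH4.FlatAt
import Groth.Agent.Lib.FlatSyz.Kernel
import Mathlib.LinearAlgebra.TensorProduct.Pi

universe u

open TensorProduct

set_option backward.isDefEq.respectTransparency.types false

namespace Groth.Agent.RegImm26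

/-- The trivial relations of a family. -/
def koszulRel {B : Type u} [CommRing B] {r : ℕ} (f : Fin r → B) (p : Fin r × Fin r) : Fin r → B :=
  Pi.single p.1 (f p.2) - Pi.single p.2 (f p.1)

theorem map_koszulRel {B B' : Type u} [CommRing B] [CommRing B'] (φ : B →+* B') {r : ℕ} (f : Fin r → B)
    (p : Fin r × Fin r) (i : Fin r) : φ (koszulRel f p i) = koszulRel (fun j => φ (f j)) p i := by
  simp only [koszulRel, Pi.sub_apply, map_sub, Pi.single_apply, apply_ite φ, map_zero]

theorem isH1Regular_iff_span {B : Type u} [CommRing B] {r : ℕ} (f : Fin r → B) :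
    CAlgX.IsH1Regular f ↔ ∀ a : Fin r → B, ∑ i, a i * f i = 0 → a ∈ Submodule.span B (Set.range (koszulRel f)) := by
  have : {v : Fin r → B | ∃ i j : Fin r, v = Pi.single i (f j) - Pi.single j (f i)} = Set.range (koszulRel f) :=
    Set.ext fun v => ⟨fun ⟨i, j, h⟩ => ⟨(i, j), h.symm⟩, fun ⟨⟨i, j⟩, h⟩ => ⟨i, j, h.symm⟩⟩
  rw [CAlgX.IsH1Regular, this]

/-- `H1`-regularity passes along isomorphisms. -/
theorem isH1Regular_map_ringEquiv {R S : Type u} [CommRing R] [CommRing S] (e : R ≃+* S) {c : ℕ} (f : Fin c → R)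
    (h : CAlgX.IsH1Regular f) : CAlgX.IsH1Regular fun i => e (f i) := by
  letI : Algebra R S := e.toRingHom.toAlgebra
  haveI : Module.Flat R S := RingHom.Flat.of_bijective (f := e.toRingHom) e.bijective
  exact RegSeq26.isH1Regular_of_flat (A := R) (B := S) h

/-- With flat quotient, the relations after base change come from the relations before. -/
theorem rel_baseChange {A B : Type u} [CommRing A] [CommRing B] [Algebra A B] {r m : ℕ} (f : Fin r → B)
    (z : Fin m → Fin r → B) (hz : ∀ k, ∑ i, z k i * f i = 0)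
    (hgen : ∀ a : Fin r → B, ∑ i, a i * f i = 0 → a ∈ Submodule.span B (Set.range z))
    [Module.Flat A (B ⧸ Ideal.span (Set.range f))] (A' : Type u) [CommRing A'] [Algebra A A']
    (a : Fin r → A' ⊗[A] B) (ha : ∑ i, a i * ((1 : A') ⊗ₜ[A] f i) = 0) :
    a ∈ Submodule.span (A' ⊗[A] B) (Set.range fun k i => ((1 : A') ⊗ₜ[A] z k i : A' ⊗[A] B)) := by
  classical
  let J : Submodule A B := (Ideal.span (Set.range f)).restrictScalars A
  let d₁ : (Fin r → B) →ₗ[A] J := LinearMap.codRestrict J ((Fintype.linearCombination B f).restrictScalars A) fun x => by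
    show Fintype.linearCombination B f x ∈ Ideal.span (Set.range f)
    rw [Fintype.linearCombination_apply]
    exact sum_mem fun i _ => Ideal.mul_mem_left _ _ (Ideal.subset_span ⟨i, rfl⟩)
  let d₂ : (Fin m → B) →ₗ[A] (Fin r → B) := (Fintype.linearCombination B z).restrictScalars A
  have hd₁ : Function.Surjective d₁ := by
    rintro ⟨x, hx⟩
    obtain ⟨c, hc⟩ := (Submodule.mem_span_range_iff_exists_fun B).mp (hx : x ∈ Ideal.span (Set.range f))
    exact ⟨c, Subtype.ext ((Fintype.linearCombination_apply B f c).trans hc)⟩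
  have hex : Function.Exact d₂ d₁ := by
    intro x
    constructor
    · intro hx
      have h0 : ∑ i, x i * f i = 0 := by
        have := congrArg Subtype.val hx
        simpa [d₁, Fintype.linearCombination_apply] using this
      have h1 := hgen x h0
      rw [← Fintype.range_linearCombination B z] at h1
      exact h1
    · rintro ⟨y, rfl⟩
      refine Subtype.ext ?_
      show Fintype.linearCombination B f (Fintype.linearCombination B z y) = 0
      rw [Fintype.linearCombination_apply B z y, map_sum]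
      refine Finset.sum_eq_zero fun k _ => ?_
      rw [map_smul, Fintype.linearCombination_apply]
      simp only [smul_eq_mul, hz, mul_zero]
  let q : B →ₗ[A] B ⧸ Ideal.span (Set.range f) := (Ideal.Quotient.mkₐ A (Ideal.span (Set.range f))).toLinearMap
  have hq : Function.Exact J.subtype q := fun x =>
    ⟨fun hx => ⟨⟨x, Ideal.Quotient.eq_zero_iff_mem.1 hx⟩, rfl⟩,
      fun ⟨y, hy⟩ => hy ▸ Ideal.Quotient.eq_zero_iff_mem.2 y.2⟩
  have hqs : Function.Surjective q := Ideal.Quotient.mk_surjective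
  have hJ := FlatSyz.lTensor_subtype_injective_of_flat_quotient (R := A) (X := B)
    (M := B ⧸ Ideal.span (Set.range f)) J.subtype J.injective_subtype q hq hqs A'
  let e := TensorProduct.piRight A A' A' (fun _ : Fin r => B)
  have key : ∀ z : A' ⊗[A] (Fin r → B), ∑ i, e z i * ((1 : A') ⊗ₜ[A] f i) = J.subtype.lTensor A' (d₁.lTensor A' z) := by
    intro z
    induction z using TensorProduct.induction_on with
    | zero => simp
    | tmul s x =>
      simp only [e, TensorProduct.piRight_apply, TensorProduct.piRightHom_tmul, Algebra.TensorProduct.tmul_mul_tmul, mul_one,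
        ← TensorProduct.tmul_sum, LinearMap.lTensor_tmul]
      congr 1
    | add y z hy hz => simp only [map_add, Pi.add_apply, add_mul, Finset.sum_add_distrib, hy, hz]
  obtain ⟨w, hw⟩ := (lTensor_exact A' hex hd₁ (e.symm a)).mp (hJ (by
    rw [map_zero, ← key, LinearEquiv.apply_symm_apply]; exact ha))
  rw [← e.apply_symm_apply a, ← hw]
  clear hw
  induction w using TensorProduct.induction_on with
  | zero => rw [map_zero, map_zero]; exact zero_mem _
  | tmul s y =>
    have : e (d₂.lTensor A' (s ⊗ₜ y)) = ∑ k : Fin m, (s ⊗ₜ[A] y k) •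
        (fun i => ((1 : A') ⊗ₜ[A] z k i : A' ⊗[A] B)) := by
      funext i
      rw [LinearMap.lTensor_tmul, TensorProduct.piRight_apply, TensorProduct.piRightHom_tmul]
      simp only [d₂, LinearMap.restrictScalars_apply, Fintype.linearCombination_apply, Finset.sum_apply,
        TensorProduct.tmul_sum, Pi.smul_apply, smul_eq_mul, Algebra.TensorProduct.tmul_mul_tmul, mul_one]
    rw [this]
    exact sum_mem fun k _ => Submodule.smul_mem _ _ (Submodule.subset_span ⟨k, rfl⟩)
  | add y z hy hz => rw [map_add, map_add]; exact add_mem hy hz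

/-- The quotient of a base change is the base change of the quotient. -/
theorem flat_quot_iff_flat_tensor {R B₀ : Type u} [CommRing R] [CommRing B₀] [Algebra R B₀] {c : ℕ}
    (f₀ : Fin c → B₀) (C : Type u) [CommRing C] [Algebra R C] :
    Module.Flat C (C ⊗[R] (B₀ ⧸ Ideal.span (Set.range f₀))) ↔ Module.Flat C ((C ⊗[R] B₀) ⧸ Ideal.span (Set.range fun i => ((1 : C) ⊗ₜ[R] f₀ i : C ⊗[R] B₀))) := by
  let φ : C ⊗[R] B₀ →ₐ[C] C ⊗[R] (B₀ ⧸ Ideal.span (Set.range f₀)) :=
    Algebra.TensorProduct.map (AlgHom.id C C) (Ideal.Quotient.mkₐ R (Ideal.span (Set.range f₀)))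
  let ψ : C ⊗[R] B₀ →ₐ[R] C ⊗[R] (B₀ ⧸ Ideal.span (Set.range f₀)) :=
    Algebra.TensorProduct.map (AlgHom.id R C) (Ideal.Quotient.mkₐ R (Ideal.span (Set.range f₀)))
  have h0 : ∀ x, φ x = ψ x := by
    intro x
    induction x using TensorProduct.induction_on with
    | zero => simp
    | add x y hx hy => simp only [map_add, hx, hy]
    | tmul x y => simp [φ, ψ]
  have hsurj : Function.Surjective φ := fun y => by
    induction y using TensorProduct.induction_on with
    | zero => exact ⟨0, map_zero _⟩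
    | add x y hx hy =>
      obtain ⟨a, rfl⟩ := hx
      obtain ⟨b, rfl⟩ := hy
      exact ⟨a + b, map_add _ _ _⟩
    | tmul x y =>
      obtain ⟨b, rfl⟩ := Ideal.Quotient.mk_surjective y
      exact ⟨x ⊗ₜ b, by simp [φ]⟩
  have hker : RingHom.ker φ = Ideal.span (Set.range fun i => ((1 : C) ⊗ₜ[R] f₀ i : C ⊗[R] B₀)) := by
    have h1 : RingHom.ker φ = RingHom.ker ψ := Ideal.ext fun x => by rw [RingHom.mem_ker, RingHom.mem_ker, h0]
    rw [h1, show RingHom.ker ψ = _ from Algebra.TensorProduct.lTensor_ker _ (Ideal.Quotient.mkₐ_surjective R _)]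
    refine (congrArg (Ideal.map _) (Ideal.Quotient.mkₐ_ker R _)).trans ?_
    rw [Ideal.map_span, ← Set.range_comp]; rfl
  rw [← hker]
  let e := (Ideal.quotientKerAlgEquivOfSurjective hsurj).toLinearEquiv
  exact ⟨fun _ => Module.Flat.of_linearEquiv e, fun _ => Module.Flat.of_linearEquiv e.symm⟩

open FlatH4 in
/-- An H1-regular sequence with flat quotient descends to a Noetherian base. -/
theorem exists_h1_model {R A B₀ : Type u} [CommRing R] [IsNoetherianRing R] [CommRing A] [Algebra R A]
    [CommRing B₀] [Algebra R B₀] [Algebra.FiniteType R B₀] {c : ℕ} (f₀ : Fin c → B₀)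
    [Module.Flat A (A ⊗[R] (B₀ ⧸ Ideal.span (Set.range f₀)))]
    (h : CAlgX.IsH1Regular fun i => ((1 : A) ⊗ₜ[R] f₀ i : A ⊗[R] B₀)) :
    ∃ C : Subalgebra R A, C.FG ∧ Module.Flat C (C ⊗[R] (B₀ ⧸ Ideal.span (Set.range f₀))) ∧
      CAlgX.IsH1Regular fun i => ((1 : C) ⊗ₜ[R] f₀ i : C ⊗[R] B₀) := by
  classical
  obtain ⟨B₁, hB₁, hflat⟩ := exists_subalgebra_flat R A B₀ (B₀ ⧸ Ideal.span (Set.range f₀))
  haveI : IsNoetherianRing B₁ := isNoetherianRing_of_fg hB₁
  haveI : IsNoetherianRing (B₁ ⊗[R] B₀) := Algebra.FiniteType.isNoetherianRing B₁ _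
  let f₁ : Fin c → B₁ ⊗[R] B₀ := fun i => 1 ⊗ₜ f₀ i
  obtain ⟨m, z, hzspan⟩ := Submodule.fg_iff_exists_fin_generating_family.1
    (IsNoetherian.noetherian (LinearMap.ker (Fintype.linearCombination (B₁ ⊗[R] B₀) f₁)))
  have hz : ∀ k, ∑ i, z k i * f₁ i = 0 := by
    intro k
    have : z k ∈ LinearMap.ker (Fintype.linearCombination (B₁ ⊗[R] B₀) f₁) :=
      hzspan ▸ Submodule.subset_span ⟨k, rfl⟩
    rw [LinearMap.mem_ker, Fintype.linearCombination_apply] at this
    simpa only [smul_eq_mul] using this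
  have hrelA : ∀ k, ∃ a : Fin c × Fin c → A ⊗[R] B₀,
      ∀ i, subTensor B₁ B₀ (z k i) = ∑ p, a p * koszulRel (fun j => ((1 : A) ⊗ₜ[R] f₀ j)) p i := by
    intro k
    have h0 := congrArg (subTensor B₁ B₀) (hz k)
    rw [map_sum, map_zero] at h0
    obtain ⟨a, ha⟩ := (Submodule.mem_span_range_iff_exists_fun _).1
      ((isH1Regular_iff_span _).1 h (fun i => subTensor B₁ B₀ (z k i))
        (by simpa [subTensor, f₁] using h0))
    exact ⟨a, fun i => by rw [← congrFun ha i, Finset.sum_apply]; simp⟩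
  choose a ha using hrelA
  choose Cs a₀ hCs ha₀ using fun k p => exists_subTensor_eq (a k p)
  let C' : Subalgebra R A := B₁ ⊔ Finset.univ.sup fun q : Fin m × (Fin c × Fin c) => Cs q.1 q.2
  have hC' : C'.FG := hB₁.sup (Finset.sup_induction Subalgebra.fg_bot (fun _ h1 _ h2 => h1.sup h2)
    fun q _ => hCs q.1 q.2)
  have hle1 : B₁ ≤ C' := le_sup_left
  have hle2 : ∀ k p, Cs k p ≤ C' := fun k p =>
    le_trans (Finset.le_sup (f := fun q : Fin m × (Fin c × Fin c) => Cs q.1 q.2) (Finset.mem_univ (k, p)))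
      le_sup_right
  obtain ⟨C, hC'C, hC, heq⟩ := exists_forall_inclTensor_eq (ι := Fin m × Fin c) hC'
    (fun q => inclTensor hle1 B₀ (z q.1 q.2))
    (fun q => ∑ p, inclTensor (hle2 q.1 p) B₀ (a₀ q.1 p) *
      koszulRel (fun j => ((1 : C') ⊗ₜ[R] f₀ j)) p q.2)
    (fun q => by
      rw [subTensor_inclTensor, ha, map_sum]
      refine Finset.sum_congr rfl fun p _ => ?_
      rw [map_mul, subTensor_inclTensor, ha₀]
      congr 1
      refine Eq.trans ?_ (map_koszulRel (subTensor C' B₀).toRingHom _ p q.2).symm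
      simp [subTensor])
  have hle : B₁ ≤ C := hle1.trans hC'C
  refine ⟨C, hC, hflat C hle hC, (isH1Regular_iff_span _).2 fun b hb => ?_⟩
  letI : Algebra B₁ C := (Subalgebra.inclusion hle).toRingHom.toAlgebra
  haveI : IsScalarTower R B₁ C := IsScalarTower.of_algebraMap_eq fun r => rfl
  let e : C ⊗[B₁] (B₁ ⊗[R] B₀) ≃ₐ[C] C ⊗[R] B₀ := Algebra.TensorProduct.cancelBaseChange R B₁ C C B₀
  have he : ∀ x : B₁ ⊗[R] B₀, e ((1 : C) ⊗ₜ[B₁] x) = inclTensor hle B₀ x := by
    intro x
    induction x using TensorProduct.induction_on with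
    | zero => simp
    | add u v hu hv => rw [TensorProduct.tmul_add, map_add, map_add, hu, hv]
    | tmul s d =>
      rw [Algebra.TensorProduct.cancelBaseChange_tmul]
      simp [inclTensor, Algebra.smul_def]
      rfl
  haveI := (flat_quot_iff_flat_tensor f₀ B₁).1 (hflat B₁ le_rfl hB₁)
  have hrel := rel_baseChange f₁ z hz (fun x hx => hzspan.symm ▸ by
    rw [LinearMap.mem_ker, Fintype.linearCombination_apply]; simpa only [smul_eq_mul] using hx) C
    (fun i => e.symm (b i)) (e.injective (by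
      rw [map_sum, map_zero, ← hb]
      refine Finset.sum_congr rfl fun i _ => ?_
      rw [map_mul, e.apply_symm_apply, he]
      simp [inclTensor, f₁]))
  obtain ⟨w, hw⟩ := (Submodule.mem_span_range_iff_exists_fun _).1 hrel
  have hb' : b = ∑ k, e (w k) • fun i => inclTensor hle B₀ (z k i) := funext fun i => by
    have := congrArg e (congrFun hw i)
    rw [e.apply_symm_apply, Finset.sum_apply, map_sum] at this
    rw [← this, Finset.sum_apply]
    exact Finset.sum_congr rfl fun k _ => by simp only [Pi.smul_apply, smul_eq_mul, map_mul, he]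
  rw [hb']
  refine Submodule.sum_mem _ fun k _ => Submodule.smul_mem _ _ ?_
  have : (fun i => inclTensor hle B₀ (z k i)) = ∑ p, (inclTensor hC'C B₀ (inclTensor (hle2 k p) B₀ (a₀ k p))) •
      koszulRel (fun j => ((1 : C) ⊗ₜ[R] f₀ j)) p := funext fun i => by
    rw [show inclTensor hle B₀ (z k i) = inclTensor hC'C B₀ (inclTensor hle1 B₀ (z k i)) from
      (inclTensor_inclTensor hle1 hC'C _).symm, heq (k, i), map_sum, Finset.sum_apply]
    refine Finset.sum_congr rfl fun p _ => ?_
    rw [map_mul, Pi.smul_apply, smul_eq_mul]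
    congr 1
    refine Eq.trans (map_koszulRel (inclTensor hC'C B₀).toRingHom _ p i) ?_
    simp [inclTensor]
  rw [this]
  exact Submodule.sum_mem _ fun p _ => Submodule.smul_mem _ _ (Submodule.subset_span ⟨p, rfl⟩)

open FlatH4 in
/-- The case of a given model. -/
theorem flat_atPrime_of_h1_model {R A B₀ : Type u} [CommRing R] [IsNoetherianRing R] [CommRing A] [Algebra R A]
    [CommRing B₀] [Algebra R B₀] [Algebra.FiniteType R B₀] {c : ℕ} (f₀ : Fin c → B₀)
    (h : CAlgX.IsH1Regular fun i => ((1 : A) ⊗ₜ[R] f₀ i : A ⊗[R] B₀))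
    [Module.Flat A ((A ⊗[R] B₀) ⧸ Ideal.span (Set.range fun i => ((1 : A) ⊗ₜ[R] f₀ i : A ⊗[R] B₀)))]
    (q : Ideal (A ⊗[R] B₀)) [q.IsPrime] (hq : ∀ i, ((1 : A) ⊗ₜ[R] f₀ i : A ⊗[R] B₀) ∈ q) :
    Module.Flat A (Localization.AtPrime q) := by
  haveI : Module.Flat A (A ⊗[R] (B₀ ⧸ Ideal.span (Set.range f₀))) :=
    (flat_quot_iff_flat_tensor (R := R) f₀ A).2 inferInstance
  obtain ⟨C, hC, hflat, h1⟩ := exists_h1_model f₀ h
  haveI : IsNoetherianRing C := isNoetherianRing_of_fg hC
  haveI : IsNoetherianRing (C ⊗[R] B₀) := Algebra.FiniteType.isNoetherianRing C _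
  haveI := (flat_quot_iff_flat_tensor f₀ C).1 hflat
  let ψ : C ⊗[R] B₀ →+* A ⊗[R] B₀ := (subTensor C B₀).toRingHom
  haveI : IsNoetherianRing (Localization.AtPrime (q.comap ψ)) :=
    IsLocalization.isNoetherianRing (q.comap ψ).primeCompl _ inferInstance
  haveI : Module.Flat C (Localization.AtPrime (q.comap ψ)) :=
    flat_atPrime_of_quasi _ (QReg.isQuasiRegular_of_isH1Regular h1) (q.comap ψ) (Ideal.span_le.2 (by
      rintro _ ⟨i, rfl⟩
      show ψ _ ∈ q
      simpa [ψ, subTensor] using hq i))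
  haveI : Module.Flat C (LocalizedModule (q.comap ψ).primeCompl (C ⊗[R] B₀)) :=
    (flat_localization_iff (q.comap ψ)).2 inferInstance
  let e : A ⊗[C] (C ⊗[R] B₀) ≃ₗ[A] A ⊗[R] B₀ :=
    (Algebra.TensorProduct.cancelBaseChange R C A A B₀).toLinearEquiv
  have he : ∀ x : C ⊗[R] B₀, e ((1 : A) ⊗ₜ[C] x) = ψ x := by
    intro x
    induction x using TensorProduct.induction_on with
    | zero => rw [TensorProduct.tmul_zero, e.map_zero, map_zero]
    | add u v hu hv => rw [TensorProduct.tmul_add, e.map_add, map_add, hu, hv]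
    | tmul s d =>
      show Algebra.TensorProduct.cancelBaseChange R C A A B₀ _ = _
      rw [Algebra.TensorProduct.cancelBaseChange_tmul]
      simp [ψ, subTensor, Algebra.smul_def]
  exact (flat_localization_iff q).1 (flat_localized_baseChange (R := C) (S := C ⊗[R] B₀) (M := C ⊗[R] B₀)
    A ψ q e (fun s m => by rw [smul_eq_mul, he, he, map_mul, smul_eq_mul]))

/-- The case of a model up to isomorphism. -/
theorem flat_atPrime_of_h1_equiv {R A B₀ B : Type u} [CommRing R] [IsNoetherianRing R] [CommRing A] [Algebra R A]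
    [CommRing B₀] [Algebra R B₀] [Algebra.FiniteType R B₀] [CommRing B] [Algebra A B] {c : ℕ} (f : Fin c → B)
    (hf : CAlgX.IsH1Regular f) [Module.Flat A (B ⧸ Ideal.span (Set.range f))] (q : Ideal B) [q.IsPrime]
    (hq : Ideal.span (Set.range f) ≤ q) (f₀ : Fin c → B₀) (e : A ⊗[R] B₀ ≃ₐ[A] B)
    (he : ∀ i, e ((1 : A) ⊗ₜ[R] f₀ i) = f i) : Module.Flat A (Localization.AtPrime q) := by
  let f' : Fin c → A ⊗[R] B₀ := fun i => (1 : A) ⊗ₜ[R] f₀ i
  have hf' : CAlgX.IsH1Regular f' := by
    refine (congrArg CAlgX.IsH1Regular (funext fun i => ?_)).mp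
      (isH1Regular_map_ringEquiv e.symm.toRingEquiv f hf)
    show e.symm (f i) = f' i
    rw [AlgEquiv.symm_apply_eq, he]
  haveI : Module.Flat A ((A ⊗[R] B₀) ⧸ Ideal.span (Set.range f')) := by
    refine Module.Flat.of_linearEquiv (Ideal.quotientEquivAlg (Ideal.span (Set.range f')) (Ideal.span (Set.range f)) e ?_).toLinearEquiv
    rw [Ideal.map_span, ← Set.range_comp]
    exact congrArg Ideal.span (congrArg Set.range (funext fun i => (he i).symm))
  haveI := flat_atPrime_of_h1_model f₀ hf' (q.comap e.toRingEquiv.toRingHom) (fun i => by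
    show e _ ∈ q
    rw [he]; exact hq (Ideal.subset_span (Set.mem_range_self i)))
  refine Module.Flat.of_linearEquiv (IsLocalization.algEquivOfAlgEquiv
    (Localization.AtPrime q) (Localization.AtPrime (q.comap e.toRingEquiv.toRingHom)) (M := q.primeCompl) (T := (q.comap e.toRingEquiv.toRingHom).primeCompl) e.symm ?_).toLinearEquiv
  ext x
  constructor
  · rintro ⟨y, hy, rfl⟩
    show e (e.symm y) ∉ q
    rwa [AlgEquiv.apply_symm_apply]
  · intro hx
    exact ⟨e x, hx, e.symm_apply_apply x⟩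


open FlatH4 in
/-- An H1-regular sequence with flat quotient in a finitely presented algebra forces flatness. -/
theorem flat_atPrime_of_h1 {A B : Type u} [CommRing A] [CommRing B] [Algebra A B]
    [Algebra.FinitePresentation A B] {c : ℕ} (f : Fin c → B) (hf : CAlgX.IsH1Regular f)
    [Module.Flat A (B ⧸ Ideal.span (Set.range f))] (q : Ideal B) [q.IsPrime]
    (hq : Ideal.span (Set.range f) ≤ q) : Module.Flat A (Localization.AtPrime q) := by
  classical
  obtain ⟨R, B₀, _, _, _, _, hR, hB₀, ⟨e⟩⟩ := exists_approx A B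
  haveI := hR
  haveI := hB₀
  haveI : IsNoetherianRing R := Algebra.FiniteType.isNoetherianRing ℤ R
  choose Cs f₀ hCs hf₀ using fun i => exists_subTensor_eq (e.symm (f i))
  let C : Subalgebra R A := Finset.univ.sup Cs
  have hC : C.FG := Finset.sup_induction Subalgebra.fg_bot (fun _ h1 _ h2 => h1.sup h2) fun i _ => hCs i
  have hle : ∀ i, Cs i ≤ C := fun i => Finset.le_sup (Finset.mem_univ i)
  haveI : IsNoetherianRing C := isNoetherianRing_of_fg hC
  let f₁ : Fin c → C ⊗[R] B₀ := fun i => inclTensor (hle i) B₀ (f₀ i)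
  let e' : A ⊗[C] (C ⊗[R] B₀) ≃ₐ[A] B := (Algebra.TensorProduct.cancelBaseChange R C A A B₀).trans e
  have he : ∀ i, e' ((1 : A) ⊗ₜ[C] f₁ i) = f i := by
    intro i
    have hx : ∀ x : C ⊗[R] B₀, Algebra.TensorProduct.cancelBaseChange R C A A B₀ ((1 : A) ⊗ₜ[C] x) = subTensor C B₀ x := by
      intro x
      induction x using TensorProduct.induction_on with
      | zero => simp
      | add u v hu hv => rw [TensorProduct.tmul_add, map_add, map_add, hu, hv]
      | tmul s d =>
        rw [Algebra.TensorProduct.cancelBaseChange_tmul]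
        simp [subTensor, Algebra.smul_def]
    show e (Algebra.TensorProduct.cancelBaseChange R C A A B₀ _) = f i
    rw [hx, subTensor_inclTensor, hf₀, AlgEquiv.apply_symm_apply]
  exact flat_atPrime_of_h1_equiv f hf q hq f₁ e' he

end Groth.Agent.RegImm26
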