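/-
Relative H1-regular immersions into schemes locally of finite presentation.
-/
import Groth.Agent.Lib.RegImm26.H1Desc
import Groth.Agent.Lib.RegImm26.RelReg
import Groth.Agent.Lib.FlatH4.FibreCritScheme

universe u

open CategoryTheory CategoryTheory.Limits AlgebraicGeometry TopologicalSpace

set_option backward.isDefEq.respectTransparency.types false

namespace Groth.Agent.RegImm26

variable {Z X S : Scheme.{u}} (f : X ⟶ S) [LocallyOfFinitePresentation f] (i : Z ⟶ X)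

theorem flat_stalkMap_of_relH1 (hi : RegImm.IsRelRegularImmersion .h1 f i) (z : Z) :
    (f.stalkMap (i z)).hom.Flat := by
  haveI := hi.1.1
  haveI := hi.2
  obtain ⟨_, ⟨W, hW, rfl⟩, hxW, -⟩ :=
    S.isBasis_affineOpens.exists_subset_of_mem_open (Set.mem_univ (f (i z))) isOpen_univ
  obtain ⟨⟨U, hU⟩, hzU, hUW, hcl, rs, hrs, hker⟩ :=
    exists_small_chart i (Or.inl rfl) z (hi.1.2 z) (O := f ⁻¹ᵁ W) hxW
  haveI := hcl
  rw [FlatH4.flat_stalkMap_iff f W hW U hU hUW hzU]
  letI := (f.appLE W U hUW).hom.toAlgebra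
  rw [FlatH4.flat_localization_iff]
  haveI : Algebra.FinitePresentation Γ(S, W) Γ(X, U) := f.finitePresentation_appLE hW hU hUW
  haveI : Module.Flat Γ(S, W) (Γ(X, U) ⧸ Ideal.span (Set.range rs.get)) := by
    rw [span_range_get, ← hker]; exact flat_chart f i hU hW hUW
  refine flat_atPrime_of_h1 rs.get hrs _ ?_
  rw [span_range_get, ← hker]
  intro a ha
  letI : Algebra Γ(X, U) (X.presheaf.stalk (i z)) := (X.presheaf.germ U (i z) hzU).hom.toAlgebra
  haveI : IsLocalization.AtPrime (X.presheaf.stalk (i z)) (hU.primeIdealOf ⟨i z, hzU⟩).asIdeal :=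
    hU.isLocalization_stalk ⟨i z, hzU⟩
  by_contra hne
  have hu : IsUnit (algebraMap Γ(X, U) (X.presheaf.stalk (i z)) a) :=
    IsLocalization.map_units (M := (hU.primeIdealOf ⟨i z, hzU⟩).asIdeal.primeCompl) _ ⟨a, hne⟩
  have h0 : (i.stalkMap z).hom (X.presheaf.germ U (i z) hzU a) = 0 := by
    rw [Scheme.Hom.germ_stalkMap_apply, show (i.app U).hom a = 0 from ha, map_zero]
  exact not_isUnit_zero (h0 ▸ hu.map (i.stalkMap z).hom)

theorem exists_flat_nbhd_of_relH1 (hi : RegImm.IsRelRegularImmersion .h1 f i) :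
    ∃ U : X.Opens, Set.range (fun z : ↥Z => i z) ⊆ (U : Set ↥X) ∧ Flat (U.ι ≫ f) := by
  let U : X.Opens := ⟨_, FlatH4.isOpen_flatLocus f⟩
  refine ⟨U, ?_, Flat.of_stalkMap _ fun x => ?_⟩
  · rintro _ ⟨z, rfl⟩
    exact flat_stalkMap_of_relH1 f i hi z
  · exact (FlatH4.flat_stalkMap_comp_left_iff U.ι f x).2 x.2

theorem regular_of_relH1 (hi : RegImm.IsRelRegularImmersion .h1 f i) : RegImm.IsRegularImmersion .regular i := by
  haveI := hi.1.1
  haveI := hi.2
  obtain ⟨U, hU, hflat⟩ := exists_flat_nbhd_of_relH1 f i hi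
  refine ⟨inferInstance, fun z => ?_⟩
  have hj := RegSeq26.isRegularImmersion_baseChange .h1 i U.ι (i ∣_ U) (i ⁻¹ᵁ U).ι
    (isPullback_morphismRestrict i U).flip hi.1
  have hq : RegImm.IsRegularImmersion .quasi (i ∣_ U) :=
    ⟨hj.1, fun y => by
      obtain ⟨V, hV, hc, rs, hrs, hk⟩ := hj.2 y
      exact ⟨V, hV, hc, rs, QReg.isQuasiRegular_of_isH1Regular hrs, hk⟩⟩
  have e : (i ∣_ U) ≫ U.ι ≫ f = (i ⁻¹ᵁ U).ι ≫ (i ≫ f) := morphismRestrict_ι_assoc i U f
  haveI : Flat ((i ∣_ U) ≫ U.ι ≫ f) := by rw [e]; infer_instance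
  have hreg := regular_of_relQuasi (U.ι ≫ f) (i ∣_ U) ⟨hq, inferInstance⟩
  exact isRegularImmersionAt_of_restrict i U ⟨z, hU ⟨z, rfl⟩⟩ (hreg.2 _)

theorem regular_baseChange_of_relH1 (hi : RegImm.IsRelRegularImmersion .h1 f i) {S' : Scheme.{u}} (g : S' ⟶ S) :
    RegImm.IsRegularImmersion .regular (pullback.snd i (pullback.fst f g)) := by
  haveI : LocallyOfFinitePresentation (pullback.snd f g) :=
    MorphismProperty.pullback_snd (P := @LocallyOfFinitePresentation) _ _ inferInstance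
  exact regular_of_relH1 (pullback.snd f g) _ (relRegular_baseChange f i (Or.inl rfl) hi g)

end Groth.Agent.RegImm26
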