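/-
The diagonal of a smooth variety is regular of codimension the dimension.
-/
import Groth.Agent.Lib.RegImm26.Apps
import Groth.Agent.Lib.DimF18.Prod
import Mathlib.RingTheory.KrullDimension.Regular
import Mathlib.AlgebraicGeometry.Morphisms.Separated

universe u

open CategoryTheory CategoryTheory.Limits AlgebraicGeometry TopologicalSpace RingTheory.Sequence
open Groth.Agent.VarDim Groth.Agent.DimF18

set_option backward.isDefEq.respectTransparency.types false

namespace Groth.Agent.RegImm26

theorem length_add_eq {Z P : Scheme.{u}} [IsLocallyNoetherian P] (i : Z ⟶ P) [IsClosedImmersion i] (z : Z)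
    {U : P.Opens} (hU : IsAffineOpen U) (hz : i z ∈ U) {rs : List Γ(P, U)} (hrs : IsRegular Γ(P, U) rs)
    (hker : RingHom.ker (i.app U).hom = Ideal.ofList rs) {a b : ℕ} (ha : Order.coheight z = (a : ℕ∞))
    (hb : Order.coheight (i z) = (b : ℕ∞)) : rs.length + a = b := by
  letI := P.presheaf.algebra_section_stalk (U := U) ⟨i z, hz⟩
  haveI := hU.isLocalization_stalk ⟨i z, hz⟩
  let L := P.presheaf.stalk (i z)
  haveI : Module.Flat Γ(P, U) L := IsLocalization.flat _ (hU.primeIdealOf ⟨i z, hz⟩).asIdeal.primeCompl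
  have hk : RingHom.ker (i.stalkMap z).hom = Ideal.ofList (rs.map (algebraMap Γ(P, U) L)) := by
    rw [← Ideal.map_ofList, ← hker]; exact ker_stalkMap_eq i z hU hz
  have hreg : IsRegular L (rs.map (algebraMap Γ(P, U) L)) := by
    refine ⟨hrs.toIsWeaklyRegular.of_flat, fun htop => ?_⟩
    rw [smul_eq_mul, Ideal.mul_top] at htop
    exact RingHom.ker_ne_top (i.stalkMap z).hom (hk.trans htop.symm)
  have h := ringKrullDim_add_length_eq_ringKrullDim_of_isRegular _ hreg
  rw [← hk, ringKrullDim_eq_of_ringEquiv (RingHom.quotientKerEquivOfSurjective (i.stalkMap_surjective z)),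
    ringKrullDim_stalk_eq_coheight, ringKrullDim_stalk_eq_coheight, ha, hb, List.length_map] at h
  have h' : ((a + rs.length : ℕ) : WithBot ℕ∞) = ((b : ℕ) : WithBot ℕ∞) := by
    push_cast
    exact h
  have h'' : a + rs.length = b := by exact_mod_cast h'
  omega

variable {K : Type u} [Field K] {X : Scheme.{u}} (f : X ⟶ Spec (CommRingCat.of K)) [Smooth f] [IsSeparated f]
  [IsIntegral X]

theorem coheight_add_sdim {n : ℕ} (hn : topologicalKrullDim X = n) (x : X) :
    ∃ a : ℕ, Order.coheight x = (a : ℕ∞) ∧ a + sdim f x = n := by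
  haveI : IsLocallyNoetherian X := LocallyOfFiniteType.isLocallyNoetherian f
  let η := genericPoint X
  have hle : ∀ y : X, sdim f y ≤ sdim f η := fun y => by
    by_cases he : η = y
    · rw [he]
    · exact (sdim_lt_of_specializes f (genericPoint_specializes y) he).le
  have hη : sdim f η = n := by
    rw [dim_eq_iSup_sdim f] at hn
    have : (⨆ y : X, ((sdim f y : ℕ) : WithBot ℕ∞)) = ((sdim f η : ℕ) : WithBot ℕ∞) :=
      le_antisymm (iSup_le fun y => by exact_mod_cast hle y) (le_iSup (fun y : X => ((sdim f y : ℕ) : WithBot ℕ∞)) η)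
    rw [this] at hn
    exact_mod_cast hn
  obtain ⟨a, ha⟩ := ENat.ne_top_iff_exists.1 (coheight_ne_top x)
  refine ⟨a, ha.symm, le_antisymm ?_ ?_⟩
  · obtain ⟨z, -, hz⟩ := exists_generization_sdim f ha.symm
    have := hle z
    omega
  · have h := sdim_le_add_coheight f (genericPoint_specializes x)
    rw [← ha, hη] at h
    have : n ≤ sdim f x + a := by exact_mod_cast h
    omega

theorem coheight_diag {n : ℕ} (hn : topologicalKrullDim X = n) (x : X) :
    ∃ b : ℕ, Order.coheight (pullback.diagonal f x) = (b : ℕ∞) ∧ b + sdim f x = 2 * n := by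
  set P := pullback.diagonalObj f
  let q : P ⟶ Spec (CommRingCat.of K) := pullback.fst f f ≫ f
  haveI : LocallyOfFiniteType q := inferInstance
  haveI : IsLocallyNoetherian P := LocallyOfFiniteType.isLocallyNoetherian q
  set w := pullback.diagonal f x
  obtain ⟨b, hb⟩ := ENat.ne_top_iff_exists.1 (coheight_ne_top w)
  refine ⟨b, hb.symm, ?_⟩
  have hw : sdim q w = sdim f x := by
    rw [← sdim_comp_of_surjective q (pullback.diagonal f) x,
      show pullback.diagonal f ≫ q = f by simp [q]]
  let η := genericPoint X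
  have hn' : sdim f η = n := by
    obtain ⟨a, ha, hae⟩ := coheight_add_sdim f hn η
    have h0 : Order.coheight η = 0 := by
      rw [Order.coheight_eq_zero]
      intro y _
      exact genericPoint_specializes y
    rw [h0] at ha
    have : a = 0 := by exact_mod_cast ha.symm
    omega
  have hle : ∀ z : P, sdim q z ≤ 2 * n := fun z => by
    have h1 := (sdim_prod f f z).1
    obtain ⟨a1, -, e1⟩ := coheight_add_sdim f hn (pullback.fst f f z)
    obtain ⟨a2, -, e2⟩ := coheight_add_sdim f hn (pullback.snd f f z)
    change sdim q z ≤ _ at h1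
    omega
  obtain ⟨ζ, hζw, hζ1, hζ2⟩ := exists_prod_generization f f w (genericPoint_specializes _)
    (genericPoint_specializes _) (η := η) (ξ := η) (fun y hy => (hy.antisymm (genericPoint_specializes y)).eq)
  obtain ⟨m, hm, -, -, hsm⟩ := (sdim_prod f f ζ).2
  rw [hζ1, hζ2, hn'] at hsm
  change sdim q m = n + n at hsm
  refine le_antisymm ?_ ?_
  · obtain ⟨z, -, hz⟩ := exists_generization_sdim q hb.symm
    have := hle z
    omega
  · have h := sdim_le_add_coheight q (hm.trans hζw)
    rw [← hb, hsm, hw] at h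
    have : n + n ≤ sdim f x + b := by exact_mod_cast h
    omega

theorem diagonal_regular_codim {n : ℕ} (hn : topologicalKrullDim X = n) :
    RegImm.IsRegularImmersionOfCodim .regular n (pullback.diagonal f) := by
  set P := pullback.diagonalObj f
  haveI : IsLocallyNoetherian P := LocallyOfFiniteType.isLocallyNoetherian (pullback.fst f f ≫ f)
  haveI : Smooth (pullback.fst f f) := by infer_instance
  have hreg := ((regularClosedImmersion_iff _).1 (section_regular (pullback.fst f f) (pullback.diagonal f)
    (pullback.diagonal_fst f))).2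
  refine ⟨hreg.1, fun x => ?_⟩
  obtain ⟨⟨U, hU⟩, hx, hcl, rs, hrs, hker⟩ := hreg.2 x
  refine ⟨⟨U, hU⟩, hx, hcl, rs, ?_, hrs, hker⟩
  obtain ⟨a, ha, hae⟩ := coheight_add_sdim f hn x
  obtain ⟨b, hb, hbe⟩ := coheight_diag f hn x
  have := length_add_eq (pullback.diagonal f) x hU hx hrs hker ha hb
  omega

end Groth.Agent.RegImm26
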