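/-
Dimension of preimages under regular immersions.
-/
import Groth.Agent.Lib.RegImm26.RelReg
import Groth.Agent.Lib.CI2.RImmBC
import Mathlib.RingTheory.Ideal.KrullsHeightTheorem
import Mathlib.AlgebraicGeometry.Properties

universe u

open CategoryTheory CategoryTheory.Limits AlgebraicGeometry TopologicalSpace

set_option backward.isDefEq.respectTransparency.types false

namespace Groth.Agent.RegImm26

/-- A generic point of the preimage has codimension at most that of the regular immersion. -/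
theorem coheight_snd_le {X Y Z : Scheme.{u}} (f : X ⟶ Y) {k : RegImm.Kind} {c : ℕ}
    (hreg : RegImm.IsRegularImmersionOfCodim k c f) (ι : Z ⟶ Y) [IsLocallyNoetherian Z]
    (t : ↥(pullback f ι)) (ht : ∀ t', t' ⤳ t → t' = t) :
    Order.coheight (pullback.snd f ι t) ≤ (c : ℕ∞) := by
  haveI := hreg.1
  obtain ⟨⟨U, hU⟩, hU1, hcl, rs, hlen, -, hker⟩ := hreg.2 (pullback.fst f ι t)
  haveI := hcl
  let j := pullback.snd f ι
  have hsq : IsPullback (pullback.fst f ι) j f ι := IsPullback.of_hasPullback f ι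
  haveI : IsImmersion j := MorphismProperty.of_isPullback hsq hreg.1
  have hz : j t ∈ ι ⁻¹ᵁ U := by
    show ι (j t) ∈ U
    rw [← Scheme.Hom.comp_apply, ← hsq.w, Scheme.Hom.comp_apply]; exact hU1
  obtain ⟨V, hV, hzV, hVU⟩ := exists_isAffineOpen_mem_and_subset hz
  haveI := CI2.isClosedImmersion_restrict_of_isPullback f ι j _ hsq hVU
  have hk : RingHom.ker (j.app V).hom = Ideal.ofList (rs.map (ι.appLE U V hVU).hom) := by
    rw [CI2.ker_app_of_isPullback f ι j _ hsq hU hV hVU, hker, Ideal.map_ofList]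
  let j' := j ∣_ V
  let t' : ↑(j ⁻¹ᵁ V) := ⟨t, hzV⟩
  haveI : IsAffine (V : Scheme.{u}) := hV
  let w := j' t'
  have hw : V.ι w = j t := by
    show (j' ≫ V.ι) t' = _
    rw [morphismRestrict_ι, Scheme.Hom.comp_apply]; rfl
  have hk' : ∃ l : List Γ((V : Scheme.{u}), ⊤), l.length = c ∧ RingHom.ker (j'.app ⊤).hom = Ideal.ofList l := by
    rw [ker_restrict_app' j V ⊤]
    have key : ∀ V' : Z.Opens, V' = V → ∃ l : List Γ(Z, V'), l.length = c ∧
        RingHom.ker (j.app V').hom = Ideal.ofList l := by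
      intro V' e; subst e
      exact ⟨_, by rw [List.length_map, hlen], hk⟩
    exact key _ V.ι_image_top
  obtain ⟨l, hl, hkl⟩ := hk'
  let R := (V : Scheme.{u}).presheaf.stalk w
  letI := (V : Scheme.{u}).presheaf.algebra_section_stalk (U := (⊤ : (V : Scheme.{u}).Opens)) ⟨w, trivial⟩
  have hk2 : RingHom.ker (j'.stalkMap t').hom = Ideal.ofList (l.map (algebraMap Γ((V : Scheme.{u}), ⊤) R)) := by
    rw [← Ideal.map_ofList, ← hkl]
    exact ker_stalkMap_eq j' t' (isAffineOpen_top _) trivial
  have ht' : Order.coheight t' = 0 := by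
    rw [Order.coheight_eq_zero]
    intro y hy
    have h1 : (j ⁻¹ᵁ V).ι y = t := ht _ (Specializes.map hy (j ⁻¹ᵁ V).ι.continuous)
    exact le_of_eq (Subtype.ext h1)
  haveI : IsNoetherianRing R := inferInstance
  let T := (j ⁻¹ᵁ V : Scheme.{u}).presheaf.stalk t'
  haveI : Ring.KrullDimLE 0 T := by
    rw [Ring.krullDimLE_iff, ringKrullDim_stalk_eq_coheight, ht']
    rfl
  have hmin : IsLocalRing.maximalIdeal R ∈
      (Ideal.span {a | a ∈ l.map (algebraMap Γ((V : Scheme.{u}), ⊤) R)}).minimalPrimes := by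
    rw [show Ideal.span {a | a ∈ l.map (algebraMap Γ((V : Scheme.{u}), ⊤) R)} = RingHom.ker (j'.stalkMap t').hom
      from hk2.symm]
    refine ⟨⟨(IsLocalRing.maximalIdeal.isMaximal R).isPrime,
      IsLocalRing.le_maximalIdeal (RingHom.ker_ne_top _)⟩, fun q ⟨hq, hqk⟩ _ => ?_⟩
    haveI := hq
    haveI : (q.map (j'.stalkMap t').hom).IsPrime :=
      Ideal.map_isPrime_of_surjective (j'.stalkMap_surjective t') hqk
    haveI : (q.map (j'.stalkMap t').hom).IsMaximal :=
      Ideal.IsPrime.isMaximal' (inferInstanceAs (q.map (j'.stalkMap t').hom).IsPrime)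
    have h2 : q.IsMaximal := by
      rw [← Ideal.comap_map_of_surjective' _ (j'.stalkMap_surjective t') q |>.trans (sup_eq_left.2 hqk)]
      exact Ideal.comap_isMaximal_of_surjective _ (j'.stalkMap_surjective t')
    rw [IsLocalRing.eq_maximalIdeal h2]
  classical
  rw [show {a | a ∈ l.map (algebraMap Γ((V : Scheme.{u}), ⊤) R)} =
      (((l.map (algebraMap Γ((V : Scheme.{u}), ⊤) R)).toFinset : Finset R) : Set R) from (List.coe_toFinset _).symm]
    at hmin
  have hle := Ideal.height_le_card_of_mem_minimalPrimes_span_finset hmin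
  have hc : Order.coheight w ≤ (c : ℕ∞) := by
    have h1 := ringKrullDim_stalk_eq_coheight w
    rw [← IsLocalRing.maximalIdeal_height_eq_ringKrullDim, WithBot.coe_inj] at h1
    rw [← h1]
    refine hle.trans (Nat.cast_le.2 ((List.toFinset_card_le _).trans ?_))
    rw [List.length_map, hl]
  have h3 : ringKrullDim R = ringKrullDim (Z.presheaf.stalk (j t)) := by
    rw [← hw]
    exact (ringKrullDim_eq_of_ringEquiv (asIso (V.ι.stalkMap w)).commRingCatIsoToRingEquiv).symm
  rw [ringKrullDim_stalk_eq_coheight, ringKrullDim_stalk_eq_coheight, WithBot.coe_inj] at h3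
  exact h3 ▸ hc

end Groth.Agent.RegImm26
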