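/-
Dimension of intersections in smooth varieties.
-/
import Groth.Agent.Lib.RegImm26.InterDim
import Groth.Agent.Lib.RegImm26.Diag
import Mathlib.AlgebraicGeometry.PullbackCarrier

universe u

open CategoryTheory CategoryTheory.Limits AlgebraicGeometry TopologicalSpace
open Groth.Agent.VarDim Groth.Agent.DimF18

set_option backward.isDefEq.respectTransparency.types false

namespace Groth.Agent.RegImm26

variable {K : Type u} [Field K]

theorem sdim_genericPoint {X : Scheme.{u}} (f : X ⟶ Spec (CommRingCat.of K)) [LocallyOfFiniteType f]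
    [IrreducibleSpace X] {n : ℕ} (hn : topologicalKrullDim X = n) : sdim f (genericPoint X) = n := by
  have hle : ∀ y : X, sdim f y ≤ sdim f (genericPoint X) := fun y => by
    by_cases he : genericPoint X = y
    · rw [he]
    · exact (sdim_lt_of_specializes f (genericPoint_specializes y) he).le
  rw [dim_eq_iSup_sdim f] at hn
  have : (⨆ y : X, ((sdim f y : ℕ) : WithBot ℕ∞)) = ((sdim f (genericPoint X) : ℕ) : WithBot ℕ∞) :=
    le_antisymm (iSup_le fun y => by exact_mod_cast hle y)
      (le_iSup (fun y : X => ((sdim f y : ℕ) : WithBot ℕ∞)) (genericPoint X))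
  rw [this] at hn
  exact_mod_cast hn

theorem le_dim_component_preimage {X Y Z : Scheme.{u}} (g : Y ⟶ Spec (CommRingCat.of K)) [LocallyOfFiniteType g]
    (f : X ⟶ Y) {k : RegImm.Kind} {c : ℕ} (hreg : RegImm.IsRegularImmersionOfCodim k c f) (ι : Z ⟶ Y)
    [LocallyOfFiniteType ι] [IrreducibleSpace Z] {d : ℕ} (hd : topologicalKrullDim Z = d) (T : Set ↥(pullback f ι))
    (hT : T ∈ irreducibleComponents ↥(pullback f ι)) :
    ((d : ℕ) : WithBot ℕ∞) ≤ topologicalKrullDim ↥T + c := by
  haveI : IsLocallyNoetherian Z := LocallyOfFiniteType.isLocallyNoetherian (ι ≫ g)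
  haveI : IsImmersion f := hreg.1
  haveI : IsImmersion (pullback.snd f ι) := MorphismProperty.of_isPullback (IsPullback.of_hasPullback f ι) hreg.1
  obtain ⟨t, rfl, ht⟩ := exists_generic_of_mem_irreducibleComponents hT
  rw [dim_closure_singleton (pullback.snd f ι ≫ ι ≫ g) t, sdim_comp_of_surjective (ι ≫ g) (pullback.snd f ι) t]
  set z := pullback.snd f ι t
  have h1 := sdim_le_add_coheight (ι ≫ g) (genericPoint_specializes z)
  rw [sdim_genericPoint (ι ≫ g) hd] at h1
  have h2 := coheight_snd_le f hreg ι t ht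
  obtain ⟨b, hb⟩ := ENat.ne_top_iff_exists.1 (coheight_ne_top z)
  rw [← hb] at h1 h2
  have h1' : d ≤ sdim (ι ≫ g) z + b := by exact_mod_cast h1
  have h2' : b ≤ c := by exact_mod_cast h2
  exact_mod_cast h1'.trans (by omega : sdim (ι ≫ g) z + b ≤ sdim (ι ≫ g) z + c)

theorem le_dim_component_inter {X : Scheme.{u}} (f : X ⟶ Spec (CommRingCat.of K)) [Smooth f] [IsSeparated f]
    [IsIntegral X] (n r s : ℕ) (hn : topologicalKrullDim X = n) (V W : Set X) (hVc : IsClosed V)
    (hVi : IsIrreducible V) (hWc : IsClosed W) (hWi : IsIrreducible W)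
    (hr : topologicalKrullDim ↥V = r) (hs : topologicalKrullDim ↥W = s) (Z : Set ↥(V ∩ W))
    (hZ : Z ∈ irreducibleComponents ↥(V ∩ W)) :
    ((r + s : ℕ) : WithBot ℕ∞) ≤ topologicalKrullDim ↥Z + n := by
  let IV := Scheme.IdealSheafData.vanishingIdeal (⟨V, hVc⟩ : Closeds X)
  let IW := Scheme.IdealSheafData.vanishingIdeal (⟨W, hWc⟩ : Closeds X)
  let iV := IV.subschemeι
  let iW := IW.subschemeι
  have hrV : Set.range iV = V := by
    rw [Scheme.IdealSheafData.range_subschemeι, Scheme.IdealSheafData.coe_support_vanishingIdeal]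
    simp
  have hrW : Set.range iW = W := by
    rw [Scheme.IdealSheafData.range_subschemeι, Scheme.IdealSheafData.coe_support_vanishingIdeal]
    simp
  let hV : IV.subscheme ≃ₜ V := iV.isEmbedding.toHomeomorph.trans (Homeomorph.setCongr hrV)
  let hW : IW.subscheme ≃ₜ W := iW.isEmbedding.toHomeomorph.trans (Homeomorph.setCongr hrW)
  haveI : IrreducibleSpace V := Subtype.irreducibleSpace hVi
  haveI : IrreducibleSpace W := Subtype.irreducibleSpace hWi
  haveI : IrreducibleSpace IV.subscheme := hV.irreducibleSpace_iff.2 inferInstance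
  haveI : IrreducibleSpace IW.subscheme := hW.irreducibleSpace_iff.2 inferInstance
  have hr' : topologicalKrullDim IV.subscheme = r := by
    rw [IsHomeomorph.topologicalKrullDim_eq _ hV.isHomeomorph, hr]
  have hs' : topologicalKrullDim IW.subscheme = s := by
    rw [IsHomeomorph.topologicalKrullDim_eq _ hW.isHomeomorph, hs]
  let Δ := pullback.diagonal f
  let PV := pullback (iV ≫ f) (iW ≫ f)
  let ι : PV ⟶ pullback f f :=
    pullback.map (iV ≫ f) (iW ≫ f) f f iV iW (𝟙 _) (Category.comp_id _) (Category.comp_id _)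
  haveI : IsClosedImmersion ι := MorphismProperty.pullbackMap (P := @IsClosedImmersion)
    (inferInstance : IsClosedImmersion iV) (inferInstance : IsClosedImmersion iW) rfl rfl
  let q : pullback f f ⟶ Spec (CommRingCat.of K) := pullback.fst f f ≫ f
  have hιq : ι ≫ q = pullback.fst (iV ≫ f) (iW ≫ f) ≫ iV ≫ f := by
    rw [← Category.assoc, show ι ≫ pullback.fst f f = pullback.fst (iV ≫ f) (iW ≫ f) ≫ iV from pullback.lift_fst _ _ _,
      Category.assoc]
  haveI : IsLocallyNoetherian PV := LocallyOfFiniteType.isLocallyNoetherian (ι ≫ q)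
  let e := pullback.fst Δ ι
  haveI : IsClosedImmersion e := MorphismProperty.pullback_fst (P := @IsClosedImmersion) _ _ inferInstance
  have hre : Set.range e = V ∩ W := by
    rw [Scheme.Pullback.range_fst, Scheme.Pullback.range_map, hrV, hrW]
    ext x
    simp only [Set.mem_preimage, Set.mem_inter_iff, Δ, ← Scheme.Hom.comp_apply, pullback.diagonal_fst,
      pullback.diagonal_snd]
    rfl
  let hP : ↥(pullback Δ ι) ≃ₜ ↥(V ∩ W) := e.isEmbedding.toHomeomorph.trans (Homeomorph.setCongr hre)
  have hT : hP ⁻¹' Z ∈ irreducibleComponents ↥(pullback Δ ι) :=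
    preimage_mem_irreducibleComponents hZ hP.isOpenEmbedding (by
      obtain ⟨z, hz⟩ := hZ.1.nonempty
      exact ⟨z, hz, hP.surjective z⟩)
  have hdim : topologicalKrullDim ↥Z = topologicalKrullDim ↥(hP ⁻¹' Z) := by
    rw [topologicalKrullDim_eq_of_homeo hP.isEmbedding, Set.image_preimage_eq _ hP.surjective]
  rw [hdim]
  have hreg := diagonal_regular_codim f hn
  haveI : IsImmersion Δ := hreg.1
  haveI : IsImmersion (pullback.snd Δ ι) := MorphismProperty.of_isPullback (IsPullback.of_hasPullback Δ ι) hreg.1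
  obtain ⟨t, ht', ht⟩ := exists_generic_of_mem_irreducibleComponents hT
  rw [← ht', dim_closure_singleton (pullback.snd Δ ι ≫ ι ≫ q) t,
    sdim_comp_of_surjective (ι ≫ q) (pullback.snd Δ ι) t]
  set z := pullback.snd Δ ι t
  obtain ⟨ζ, hζz, hζ1, hζ2⟩ := exists_prod_generization (iV ≫ f) (iW ≫ f) z (genericPoint_specializes _)
    (genericPoint_specializes _) (η := genericPoint IW.subscheme) (ξ := genericPoint IV.subscheme)
    (fun y hy => (hy.antisymm (genericPoint_specializes y)).eq)
  obtain ⟨m, hm, -, -, hsm⟩ := (sdim_prod (iV ≫ f) (iW ≫ f) ζ).2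
  rw [hζ1, hζ2, sdim_genericPoint _ hr', sdim_genericPoint _ hs'] at hsm
  rw [← hιq] at hsm
  have h1 := sdim_le_add_coheight (ι ≫ q) (hm.trans hζz)
  rw [hsm] at h1
  have h2 := coheight_snd_le Δ hreg ι t ht
  obtain ⟨b, hb⟩ := ENat.ne_top_iff_exists.1 (coheight_ne_top z)
  rw [← hb] at h1 h2
  have h1' : r + s ≤ sdim (ι ≫ q) z + b := by exact_mod_cast h1
  have h2' : b ≤ n := by exact_mod_cast h2
  exact_mod_cast h1'.trans (by omega : sdim (ι ≫ q) z + b ≤ sdim (ι ≫ q) z + n)

end Groth.Agent.RegImm26
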